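import Mathlib
set_option autoImplicit false
namespace Cfsg.Agent.Lib.helper18.Jordan

open Polynomial DirectSum

universe u v
variable {F : Type u} [Field F]

/-- F-basis of F[X]/(X^j). -/
noncomputable def qb (j : ℕ) : Module.Basis (Fin j) F (F[X] ⧸ F[X] ∙ (X ^ j : F[X])) :=
  ((AdjoinRoot.powerBasisAux' (monic_X_pow (R := F) j)).reindex (finCongr (natDegree_X_pow j)))

theorem qb_apply (j : ℕ) (a : Fin j) :
    qb (F := F) j a = Submodule.Quotient.mk (X ^ (a : ℕ)) := by
  have h := (AdjoinRoot.powerBasis' (monic_X_pow (R := F) j)).basis_eq_pow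
    ((finCongr (natDegree_X_pow (R := F) j)).symm a)
  have h2 : (AdjoinRoot.powerBasisAux' (monic_X_pow (R := F) j))
      ((finCongr (natDegree_X_pow (R := F) j)).symm a) = AdjoinRoot.root (X ^ j : F[X]) ^ (a : ℕ) := h
  refine (Module.Basis.reindex_apply (AdjoinRoot.powerBasisAux' (monic_X_pow (R := F) j))
    (finCongr (natDegree_X_pow j)) a).trans ?_
  exact h2

theorem X_smul_qb (j : ℕ) (a : Fin j) :
    (X : F[X]) • qb (F := F) j a = if h : (a : ℕ) + 1 < j then qb j ⟨a + 1, h⟩ else 0 := by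
  rw [qb_apply]
  split_ifs with h
  · rw [qb_apply, ← Submodule.Quotient.mk_smul, smul_eq_mul, ← pow_succ']
  · rw [← Submodule.Quotient.mk_smul, smul_eq_mul, ← pow_succ', Submodule.Quotient.mk_eq_zero]
    have : (a : ℕ) + 1 = j := by have := a.2; omega
    rw [this]
    exact Submodule.mem_span_singleton_self _


theorem dbasis_apply {ι : Type*} {R : Type*} {M : ι → Type*} [DecidableEq ι] [Semiring R]
    [∀ i, AddCommMonoid (M i)] [∀ i, Module R (M i)] {η : ι → Type*}
    (b : ∀ i, Module.Basis (η i) R (M i)) (i : ι) (x : η i) :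
    DFinsupp.basis b ⟨i, x⟩ = DFinsupp.single i (b i x) := by
  classical
  apply (DFinsupp.basis b).repr.injective
  rw [Module.Basis.repr_self]
  simp only [DFinsupp.basis, Module.Basis.coe_ofRepr, LinearEquiv.trans_apply]
  rw [DFinsupp.mapRange.linearEquiv_apply]
  simp only [DFinsupp.mapRange_single, Module.Basis.repr_self]
  apply (sigmaFinsuppLequivDFinsupp R).injective
  rw [LinearEquiv.apply_symm_apply]
  ext j y
  simp [sigmaFinsuppLequivDFinsupp_apply]


/-- the standard basis of `Π₀ i, F[X]/(X^{j i})`. -/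
noncomputable def Bj {ι : Type*} [DecidableEq ι] (j : ι → ℕ) :
    Module.Basis (Σ i, Fin (j i)) F (Π₀ i, F[X] ⧸ F[X] ∙ (X ^ j i : F[X])) :=
  DFinsupp.basis (fun i => qb (j i))

theorem X_smul_Bj {ι : Type*} [DecidableEq ι] (j : ι → ℕ) (i : ι) (a : Fin (j i)) :
    (X : F[X]) • Bj (F := F) j ⟨i, a⟩ = if h : (a : ℕ) + 1 < j i then Bj j ⟨i, ⟨a + 1, h⟩⟩ else 0 := by
  unfold Bj
  rw [dbasis_apply, ← DFinsupp.single_smul, X_smul_qb]
  split_ifs with h
  · rw [dbasis_apply]
  · rw [DFinsupp.single_zero]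

theorem exists_jordan_basis {V : Type v} [AddCommGroup V] [Module F V] [FiniteDimensional F V]
    (N : Module.End F V) (hN : IsNilpotent N) :
    ∃ (ι : Type u) (_ : Fintype ι) (e : ι → ℕ) (b : Module.Basis (Σ i, Fin (e i)) F V),
      ∀ (i : ι) (j : Fin (e i)), N (b ⟨i, j⟩) = if h : (j : ℕ) + 1 < e i then b ⟨i, ⟨j + 1, h⟩⟩ else 0 := by
  classical
  obtain ⟨k, hk⟩ := hN
  have hkill : ∀ x : Module.AEval' N, (X ^ k : F[X]) • x = 0 := by
    intro x
    obtain ⟨m, rfl⟩ := (Module.AEval'.of N).surjective x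
    rw [Module.AEval'.X_pow_smul_of, hk]
    simp
  have htors : Module.IsTorsion F[X] (Module.AEval' N) := by
    intro x
    exact ⟨⟨X ^ k, mem_nonZeroDivisors_of_ne_zero (pow_ne_zero _ X_ne_zero)⟩, hkill x⟩
  obtain ⟨ι, _, p, hp, e, ⟨φ⟩⟩ := Module.equiv_directSum_of_isTorsion htors
  have hdiv : ∀ i, ∃ j, Submodule.span F[X] {p i ^ e i} = Submodule.span F[X] {(X : F[X]) ^ j} := by
    intro i
    have h1 : (X ^ k : F[X]) • (DirectSum.of (fun i => F[X] ⧸ F[X] ∙ p i ^ e i) i
        (Submodule.Quotient.mk 1)) = 0 := by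
      obtain ⟨x, hx⟩ := φ.surjective (DirectSum.of (fun i => F[X] ⧸ F[X] ∙ p i ^ e i) i
        (Submodule.Quotient.mk 1))
      rw [← hx, ← map_smul, hkill, map_zero]
    have h2 : (Submodule.Quotient.mk (X ^ k : F[X]) : F[X] ⧸ F[X] ∙ p i ^ e i) = 0 := by
      have h3 := congrArg (fun y : ⨁ i, F[X] ⧸ F[X] ∙ p i ^ e i => y i) h1
      simp only [DirectSum.smul_apply, DirectSum.of_eq_same, DirectSum.zero_apply] at h3
      rw [← Submodule.Quotient.mk_smul, smul_eq_mul, mul_one] at h3
      exact h3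
    rw [Submodule.Quotient.mk_eq_zero, Submodule.mem_span_singleton] at h2
    obtain ⟨a, ha⟩ := h2
    have hdvd : p i ^ e i ∣ (X : F[X]) ^ k := ⟨a, by rw [← ha, smul_eq_mul, mul_comm]⟩
    obtain ⟨j, _, hass⟩ := (dvd_prime_pow prime_X k).1 hdvd
    exact ⟨j, Ideal.span_singleton_eq_span_singleton.2 hass⟩
  choose j hj using hdiv
  have hex : ∃ Φ : V ≃ₗ[F] (Π₀ i, F[X] ⧸ F[X] ∙ (X : F[X]) ^ j i),
      ∀ v, Φ (N v) = (X : F[X]) • Φ v := by
    refine ⟨(Module.AEval'.of N).trans ((φ.trans (DFinsupp.mapRange.linearEquiv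
      (fun i => Submodule.quotEquivOfEq _ _ (hj i)))).restrictScalars F), ?_⟩
    intro v
    show (φ.trans (DFinsupp.mapRange.linearEquiv
      (fun i => Submodule.quotEquivOfEq _ _ (hj i)))) (Module.AEval'.of N (N v)) =
      (X : F[X]) • (φ.trans (DFinsupp.mapRange.linearEquiv
      (fun i => Submodule.quotEquivOfEq _ _ (hj i)))) (Module.AEval'.of N v)
    rw [← map_smul, Module.AEval'.X_smul_of]
  obtain ⟨Φ, hΦ⟩ := hex
  refine ⟨ι, inferInstance, j, (Bj j).map Φ.symm, ?_⟩
  intro i a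
  rw [Module.Basis.map_apply]
  apply Φ.injective
  rw [hΦ, LinearEquiv.apply_symm_apply, X_smul_Bj]
  split_ifs with h
  · rw [Module.Basis.map_apply, LinearEquiv.apply_symm_apply]
  · rw [map_zero]


universe w

/-- Jordan basis predicate (index = pairs `(i, a)` with `a < e i`). -/
def IsJB {V : Type v} [AddCommGroup V] [Module F V] (N : Module.End F V) {ι : Type w} (e : ι → ℕ)
    (b : Module.Basis {x : ι × ℕ // x.2 < e x.1} F V) : Prop :=
  ∀ x : {x : ι × ℕ // x.2 < e x.1}, N (b x) =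
    if h : x.1.2 + 1 < e x.1.1 then b ⟨(x.1.1, x.1.2 + 1), h⟩ else 0

theorem exists_isJB {V : Type v} [AddCommGroup V] [Module F V] [FiniteDimensional F V]
    (N : Module.End F V) (hN : IsNilpotent N) :
    ∃ (ι : Type u) (_ : Fintype ι) (e : ι → ℕ) (b : Module.Basis {x : ι × ℕ // x.2 < e x.1} F V),
      IsJB N e b := by
  obtain ⟨ι, hι, e, b, hb⟩ := exists_jordan_basis N hN
  let σ : (Σ i, Fin (e i)) ≃ {x : ι × ℕ // x.2 < e x.1} :=
    { toFun := fun x => ⟨(x.1, x.2.1), x.2.2⟩
      invFun := fun x => ⟨x.1.1, ⟨x.1.2, x.2⟩⟩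
      left_inv := fun x => rfl
      right_inv := fun x => rfl }
  refine ⟨ι, hι, e, b.reindex σ, ?_⟩
  intro x
  rw [Module.Basis.reindex_apply]
  have h1 := hb x.1.1 ⟨x.1.2, x.2⟩
  have h2 : σ.symm x = ⟨x.1.1, ⟨x.1.2, x.2⟩⟩ := rfl
  rw [h2, h1]
  split_ifs with h
  · rw [Module.Basis.reindex_apply]
    rfl
  · rfl

theorem isJB_pow {V : Type v} [AddCommGroup V] [Module F V] (N : Module.End F V) {ι : Type w} (e : ι → ℕ)
    (b : Module.Basis {x : ι × ℕ // x.2 < e x.1} F V) (hb : IsJB N e b) (k : ℕ)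
    (x : {x : ι × ℕ // x.2 < e x.1}) :
    (N ^ k) (b x) = if h : x.1.2 + k < e x.1.1 then b ⟨(x.1.1, x.1.2 + k), h⟩ else 0 := by
  induction k with
  | zero =>
    rw [pow_zero, Module.End.one_apply, dif_pos (by simpa using x.2)]
    rfl
  | succ k ih =>
    rw [pow_succ', Module.End.mul_apply, ih]
    by_cases h1 : x.1.2 + k < e x.1.1
    · rw [dif_pos h1, hb]
      by_cases h2 : x.1.2 + (k + 1) < e x.1.1
      · rw [dif_pos h2, dif_pos (by simpa [add_assoc] using h2)]
        rfl
      · rw [dif_neg h2, dif_neg (by simpa [add_assoc] using h2)]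
    · rw [dif_neg h1, map_zero, dif_neg (by omega)]

theorem isJB_rank {V : Type v} [AddCommGroup V] [Module F V] (N : Module.End F V) {ι : Type w}
    [Fintype ι] (e : ι → ℕ)
    (b : Module.Basis {x : ι × ℕ // x.2 < e x.1} F V) (hb : IsJB N e b) (k : ℕ) :
    Module.finrank F (LinearMap.range (N ^ k)) = ∑ i, (e i - k) := by
  classical
  have hfin : Finite {x : ι × ℕ // x.2 < e x.1} := by
    have : Finite (Σ i, Fin (e i)) := inferInstance
    exact Finite.of_injective (fun x : {x : ι × ℕ // x.2 < e x.1} => (⟨x.1.1, ⟨x.1.2, x.2⟩⟩ : Σ i, Fin (e i)))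
      (fun x y h => by
        have h1 := congrArg Sigma.fst h
        have h2 := congrArg (fun s : Σ i, Fin (e i) => (s.2 : ℕ)) h
        exact Subtype.ext (Prod.ext h1 h2))
  have : Fintype {x : ι × ℕ // x.2 < e x.1} := Fintype.ofFinite _
  have hr : LinearMap.range (N ^ k) =
      Submodule.span F (Set.range (fun y : {y : {x : ι × ℕ // x.2 < e x.1} // k ≤ y.1.2} => b y.1)) := by
    rw [LinearMap.range_eq_map, ← b.span_eq, Submodule.map_span]
    apply le_antisymm
    · rw [Submodule.span_le]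
      rintro _ ⟨_, ⟨x, rfl⟩, rfl⟩
      rw [isJB_pow N e b hb]
      split_ifs with h
      · exact Submodule.subset_span ⟨⟨⟨(x.1.1, x.1.2 + k), h⟩, Nat.le_add_left _ _⟩, rfl⟩
      · exact Submodule.zero_mem _
    · rw [Submodule.span_le]
      rintro _ ⟨⟨⟨⟨i, a⟩, ha⟩, hk⟩, rfl⟩
      apply Submodule.subset_span
      simp only at hk ha
      refine ⟨b ⟨(i, a - k), by simp only; omega⟩, ⟨_, rfl⟩, ?_⟩
      rw [isJB_pow N e b hb, dif_pos (by simp only; omega)]
      congr 1
      apply Subtype.ext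
      simp only [Prod.mk.injEq, true_and]
      omega
  have h3 := finrank_span_eq_card (R := F) (b.linearIndependent.comp
    (Subtype.val : {y : {x : ι × ℕ // x.2 < e x.1} // k ≤ y.1.2} → _) Subtype.val_injective)
  rw [hr]
  refine h3.trans ?_
  have e1 : {y : {x : ι × ℕ // x.2 < e x.1} // k ≤ y.1.2} ≃ (Σ i, ↥(Finset.Ico k (e i))) :=
    { toFun := fun y => ⟨y.1.1.1, ⟨y.1.1.2, Finset.mem_Ico.2 ⟨y.2, y.1.2⟩⟩⟩
      invFun := fun s => ⟨⟨(s.1, s.2.1), (Finset.mem_Ico.1 s.2.2).2⟩, (Finset.mem_Ico.1 s.2.2).1⟩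
      left_inv := fun y => rfl
      right_inv := fun s => rfl }
  rw [Fintype.card_congr e1, Fintype.card_sigma]
  apply Finset.sum_congr rfl
  intro i _
  rw [Fintype.card_coe, Nat.card_Ico]

theorem cnt_key {κ : Type*} [Fintype κ] (f : κ → ℕ) (c : ℕ) (hc : 1 ≤ c) :
    (Finset.univ.filter (fun i => f i = c)).card + 2 * ∑ i, (f i - c) =
      ∑ i, (f i - (c - 1)) + ∑ i, (f i - (c + 1)) := by
  rw [Finset.card_filter, Finset.mul_sum, ← Finset.sum_add_distrib, ← Finset.sum_add_distrib]
  apply Finset.sum_congr rfl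
  intro i _
  split_ifs with h1 <;> omega

theorem cnt_of_rank {ι : Type*} {ι' : Type*} [Fintype ι] [Fintype ι'] (e : ι → ℕ) (e' : ι' → ℕ)
    (h : ∀ k, ∑ i, (e i - k) = ∑ i, (e' i - k)) (c : ℕ) (hc : 1 ≤ c) :
    (Finset.univ.filter (fun i => e i = c)).card = (Finset.univ.filter (fun i => e' i = c)).card := by
  have h1 := cnt_key e c hc
  have h2 := cnt_key e' c hc
  rw [h c, h (c - 1), h (c + 1)] at h1
  omega

theorem exists_equiv_of_fiber {J S K : Type*} [Fintype J] [Fintype S] [DecidableEq J] [DecidableEq S]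
    [DecidableEq K] (f : J → K) (g : S → K)
    (h : ∀ k, (Finset.univ.filter (fun j => f j = k)).card =
      (Finset.univ.filter (fun s => g s = k)).card) :
    ∃ e : J ≃ S, ∀ j, g (e j) = f j := by
  have he : ∀ k, Nonempty ({j // f j = k} ≃ {s // g s = k}) := by
    intro k
    apply Fintype.card_eq.mp
    rw [Fintype.card_subtype, Fintype.card_subtype, h k]
  have e : ∀ k, {j // f j = k} ≃ {s // g s = k} := fun k => (he k).some
  refine ⟨(Equiv.sigmaFiberEquiv f).symm.trans ((Equiv.sigmaCongrRight e).trans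
    (Equiv.sigmaFiberEquiv g)), ?_⟩
  intro j
  exact ((e (f j)) ⟨j, rfl⟩).2

theorem fib_sub {κ : Type*} [Fintype κ] (f : κ → ℕ) (k : ℕ) :
    (Finset.univ.filter (fun i : {i // f i ≠ 0} => f i.1 = k)).card =
      if k = 0 then 0 else (Finset.univ.filter (fun i => f i = k)).card := by
  classical
  split_ifs with hk
  · rw [Finset.card_eq_zero, Finset.filter_eq_empty_iff]
    intro i _
    rw [hk]; exact i.2
  · apply Finset.card_bij (fun i _ => i.1)
    · intro i hi
      rw [Finset.mem_filter] at hi ⊢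
      exact ⟨Finset.mem_univ _, hi.2⟩
    · intro i _ i' _ h
      exact Subtype.ext h
    · intro i hi
      rw [Finset.mem_filter] at hi
      exact ⟨⟨i, by rw [hi.2]; exact hk⟩, by rw [Finset.mem_filter]; exact ⟨Finset.mem_univ _, hi.2⟩, rfl⟩

theorem isJB_sim {V : Type*} {V' : Type*} [AddCommGroup V] [Module F V] [AddCommGroup V'] [Module F V']
    (N : Module.End F V) (N' : Module.End F V') {ι : Type*} {ι' : Type*} [Fintype ι] [Fintype ι']
    (e : ι → ℕ) (e' : ι' → ℕ)
    (b : Module.Basis {x : ι × ℕ // x.2 < e x.1} F V) (b' : Module.Basis {x : ι' × ℕ // x.2 < e' x.1} F V')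
    (hb : IsJB N e b) (hb' : IsJB N' e' b')
    (hcnt : ∀ c, 1 ≤ c → (Finset.univ.filter (fun i => e i = c)).card =
      (Finset.univ.filter (fun i => e' i = c)).card) :
    ∃ φ : V ≃ₗ[F] V', ∀ v, φ (N v) = N' (φ v) := by
  classical
  obtain ⟨τ, hτ⟩ := exists_equiv_of_fiber (J := {i // e i ≠ 0}) (S := {i // e' i ≠ 0})
    (fun i => e i.1) (fun i => e' i.1) (by
      intro k
      rw [fib_sub e k, fib_sub e' k]
      split_ifs with hk
      · rfl
      · exact hcnt k (by omega))
  have hτ' : ∀ j, e (τ.symm j).1 = e' j.1 := by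
    intro j
    have := hτ (τ.symm j)
    rw [Equiv.apply_symm_apply] at this
    exact this.symm
  let σ : {x : ι × ℕ // x.2 < e x.1} ≃ {x : ι' × ℕ // x.2 < e' x.1} :=
    { toFun := fun x => ⟨((τ ⟨x.1.1, by have := x.2; omega⟩).1, x.1.2), by
        show x.1.2 < e' (τ ⟨x.1.1, _⟩).1
        rw [hτ]; exact x.2⟩
      invFun := fun y => ⟨((τ.symm ⟨y.1.1, by have := y.2; omega⟩).1, y.1.2), by
        show y.1.2 < e (τ.symm ⟨y.1.1, _⟩).1
        rw [hτ']; exact y.2⟩
      left_inv := fun x => by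
        apply Subtype.ext
        apply Prod.ext
        · simp
        · rfl
      right_inv := fun y => by
        apply Subtype.ext
        apply Prod.ext
        · simp
        · rfl }
  have hσ1 : ∀ x, e' (σ x).1.1 = e x.1.1 := by
    intro x
    exact hτ ⟨x.1.1, by have := x.2; omega⟩
  have hσ2 : ∀ x, (σ x).1.2 = x.1.2 := fun x => rfl
  refine ⟨b.equiv b' σ, ?_⟩
  have hlin : (b.equiv b' σ).toLinearMap ∘ₗ N = N' ∘ₗ (b.equiv b' σ).toLinearMap := by
    apply b.ext
    intro x
    rw [LinearMap.comp_apply, LinearMap.comp_apply, LinearEquiv.coe_coe, hb, Module.Basis.equiv_apply, hb']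
    by_cases h : x.1.2 + 1 < e x.1.1
    · rw [dif_pos h, dif_pos (by rw [hσ1, hσ2]; exact h), Module.Basis.equiv_apply]
      congr 1
    · rw [dif_neg h, dif_neg (by rw [hσ1, hσ2]; exact h), map_zero]
  intro v
  exact LinearMap.congr_fun hlin v

theorem rank_sim {V : Type*} {V' : Type*} [AddCommGroup V] [Module F V] [AddCommGroup V'] [Module F V']
    (N : Module.End F V) (N' : Module.End F V') (φ : V ≃ₗ[F] V') (hφ : ∀ v, φ (N v) = N' (φ v)) (k : ℕ) :
    Module.finrank F (LinearMap.range (N ^ k)) = Module.finrank F (LinearMap.range (N' ^ k)) := by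
  have hk : ∀ k v, φ ((N ^ k) v) = (N' ^ k) (φ v) := by
    intro k
    induction k with
    | zero => intro v; simp
    | succ k ih =>
      intro v
      rw [pow_succ', pow_succ', Module.End.mul_apply, Module.End.mul_apply, hφ, ih]
  have h1 : LinearMap.range (N' ^ k) = (LinearMap.range (N ^ k)).map φ.toLinearMap := by
    ext w
    constructor
    · rintro ⟨v, rfl⟩
      refine ⟨(N ^ k) (φ.symm v), ⟨_, rfl⟩, ?_⟩
      rw [LinearEquiv.coe_coe, hk, LinearEquiv.apply_symm_apply]
    · rintro ⟨_, ⟨v, rfl⟩, rfl⟩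
      exact ⟨φ v, (hk k v).symm⟩
  rw [h1, LinearEquiv.finrank_map_eq]


/-- multiset of nonzero block sizes. -/
def pm {ι : Type*} [Fintype ι] (e : ι → ℕ) : Multiset ℕ :=
  (Finset.univ.val.map e).filter (fun a => a ≠ 0)

theorem pm_pos {ι : Type*} [Fintype ι] (e : ι → ℕ) : ∀ a ∈ pm e, 0 < a := by
  intro a ha
  rw [pm, Multiset.mem_filter] at ha
  exact Nat.pos_of_ne_zero ha.2

theorem sum_filter_sub (s : Multiset ℕ) (k : ℕ) :
    ((s.filter (fun a => a ≠ 0)).map (fun a => a - k)).sum = (s.map (fun a => a - k)).sum := by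
  induction s using Multiset.induction with
  | empty => simp
  | cons a s ih =>
    by_cases ha : a = 0
    · subst ha
      rw [Multiset.filter_cons_of_neg (p := fun a => a ≠ 0) _ (by simp), Multiset.map_cons, Multiset.sum_cons, ih]
      simp
    · rw [Multiset.filter_cons_of_pos (p := fun a => a ≠ 0) _ ha, Multiset.map_cons, Multiset.sum_cons,
        Multiset.map_cons, Multiset.sum_cons, ih]

theorem pm_sub_sum {ι : Type*} [Fintype ι] (e : ι → ℕ) (k : ℕ) :
    ((pm e).map (fun a => a - k)).sum = ∑ i, (e i - k) := by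
  rw [pm, sum_filter_sub, Multiset.map_map]
  rfl

theorem ms_key (m : Multiset ℕ) (c : ℕ) (hc : 1 ≤ c) :
    m.count c + 2 * (m.map (fun a => a - c)).sum =
      (m.map (fun a => a - (c - 1))).sum + (m.map (fun a => a - (c + 1))).sum := by
  induction m using Multiset.induction with
  | empty => simp
  | cons a s ih =>
    rw [Multiset.count_cons, Multiset.map_cons, Multiset.sum_cons, Multiset.map_cons, Multiset.sum_cons,
      Multiset.map_cons, Multiset.sum_cons]
    split_ifs with h <;> omega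

theorem type_unique (m m' : Multiset ℕ) (hm : ∀ a ∈ m, 0 < a) (hm' : ∀ a ∈ m', 0 < a)
    (h : ∀ k, (m.map (fun a => a - k)).sum = (m'.map (fun a => a - k)).sum) : m = m' := by
  ext c
  rcases Nat.eq_zero_or_pos c with rfl | hc
  · rw [Multiset.count_eq_zero_of_notMem (fun h0 => lt_irrefl 0 (hm 0 h0)),
      Multiset.count_eq_zero_of_notMem (fun h0 => lt_irrefl 0 (hm' 0 h0))]
  · have h1 := ms_key m c hc
    have h2 := ms_key m' c hc
    rw [h c, h (c - 1), h (c + 1)] at h1
    omega

theorem exists_type {V : Type v} [AddCommGroup V] [Module F V] [FiniteDimensional F V]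
    (N : Module.End F V) (hN : IsNilpotent N) :
    ∃ m : Multiset ℕ, (∀ a ∈ m, 0 < a) ∧
      ∀ k, Module.finrank F (LinearMap.range (N ^ k)) = (m.map (fun a => a - k)).sum := by
  obtain ⟨ι, _, e, b, hb⟩ := exists_isJB N hN
  exact ⟨pm e, pm_pos e, fun k => by rw [pm_sub_sum, isJB_rank N e b hb k]⟩

/-- the Jordan type of a nilpotent endomorphism (multiset of block sizes). -/
noncomputable def jtype {V : Type v} [AddCommGroup V] [Module F V] [FiniteDimensional F V]
    (N : Module.End F V) (hN : IsNilpotent N) : Multiset ℕ := (exists_type N hN).choose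

theorem jtype_pos {V : Type v} [AddCommGroup V] [Module F V] [FiniteDimensional F V]
    (N : Module.End F V) (hN : IsNilpotent N) : ∀ a ∈ jtype N hN, 0 < a :=
  (exists_type N hN).choose_spec.1

theorem jtype_rank {V : Type v} [AddCommGroup V] [Module F V] [FiniteDimensional F V]
    (N : Module.End F V) (hN : IsNilpotent N) (k : ℕ) :
    Module.finrank F (LinearMap.range (N ^ k)) = ((jtype N hN).map (fun a => a - k)).sum :=
  (exists_type N hN).choose_spec.2 k

theorem jtype_sum {V : Type v} [AddCommGroup V] [Module F V] [FiniteDimensional F V]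
    (N : Module.End F V) (hN : IsNilpotent N) : (jtype N hN).sum = Module.finrank F V := by
  have h := jtype_rank N hN 0
  rw [pow_zero] at h
  have h1 : LinearMap.range (1 : Module.End F V) = ⊤ := LinearMap.range_eq_top.2 (fun v => ⟨v, rfl⟩)
  rw [h1, finrank_top] at h
  rw [h]
  simp

theorem jtype_of_isJB {V : Type v} [AddCommGroup V] [Module F V] [FiniteDimensional F V]
    (N : Module.End F V) (hN : IsNilpotent N) {ι : Type w} [Fintype ι] (e : ι → ℕ)
    (b : Module.Basis {x : ι × ℕ // x.2 < e x.1} F V) (hb : IsJB N e b) : jtype N hN = pm e := by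
  apply type_unique _ _ (jtype_pos N hN) (pm_pos e)
  intro k
  rw [← jtype_rank N hN k, pm_sub_sum, isJB_rank N e b hb k]

theorem count_pm {ι : Type*} [Fintype ι] [DecidableEq ι] (e : ι → ℕ) (c : ℕ) (hc : 1 ≤ c) :
    (pm e).count c = (Finset.univ.filter (fun i => e i = c)).card := by
  rw [pm, Multiset.count_filter_of_pos (p := fun a => a ≠ 0) (by omega : c ≠ 0), Multiset.count_map]
  rw [← Finset.filter_val, Finset.card_val]
  congr 1
  ext i
  simp [eq_comm]

theorem jtype_eq_iff {V : Type v} [AddCommGroup V] [Module F V] [FiniteDimensional F V]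
    (N N' : Module.End F V) (hN : IsNilpotent N) (hN' : IsNilpotent N') :
    jtype N hN = jtype N' hN' ↔ ∃ φ : V ≃ₗ[F] V, ∀ v, φ (N v) = N' (φ v) := by
  classical
  constructor
  · intro h
    obtain ⟨ι, _, e, b, hb⟩ := exists_isJB N hN
    obtain ⟨ι', _, e', b', hb'⟩ := exists_isJB N' hN'
    have h1 := jtype_of_isJB N hN e b hb
    have h2 := jtype_of_isJB N' hN' e' b' hb'
    apply isJB_sim N N' e e' b b' hb hb'
    intro c hc
    rw [← count_pm e c hc, ← count_pm e' c hc, ← h1, ← h2, h]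
  · rintro ⟨φ, hφ⟩
    apply type_unique _ _ (jtype_pos N hN) (jtype_pos N' hN')
    intro k
    rw [← jtype_rank N hN k, ← jtype_rank N' hN' k]
    exact rank_sim N N' φ hφ k

theorem pow_eq_zero_iff_jtype {V : Type v} [AddCommGroup V] [Module F V] [FiniteDimensional F V]
    (N : Module.End F V) (hN : IsNilpotent N) (k : ℕ) :
    N ^ k = 0 ↔ ∀ a ∈ jtype N hN, a ≤ k := by
  have h := jtype_rank N hN k
  constructor
  · intro h0 a ha
    rw [h0, LinearMap.range_zero, finrank_bot] at h
    have h1 := Multiset.sum_eq_zero_iff.1 h.symm (a - k) (Multiset.mem_map_of_mem _ ha)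
    omega
  · intro ha
    have h1 : ((jtype N hN).map (fun a => a - k)).sum = 0 := by
      apply Multiset.sum_eq_zero
      intro x hx
      rw [Multiset.mem_map] at hx
      obtain ⟨a, ha', rfl⟩ := hx
      have := ha a ha'
      omega
    rw [h1] at h
    have h2 : LinearMap.range (N ^ k) = ⊥ := Submodule.finrank_eq_zero.1 h
    exact LinearMap.range_eq_bot.1 h2

theorem exists_of_type {V : Type v} [AddCommGroup V] [Module F V] [FiniteDimensional F V]
    (m : Multiset ℕ) (hm : ∀ a ∈ m, 0 < a) (hs : m.sum = Module.finrank F V) :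
    ∃ (N : Module.End F V) (hN : IsNilpotent N), jtype N hN = m := by
  classical
  let e : Fin m.toList.length → ℕ := fun i => m.toList[i]
  have h1 : (Finset.univ.val.map e) = m := by
    rw [Fin.univ_val_map]
    have : List.ofFn e = m.toList := List.ofFn_getElem
    rw [this, Multiset.coe_toList]
  have hsum : ∑ i, e i = Module.finrank F V := by
    have h2 : (Finset.univ.val.map e).sum = ∑ i, e i := rfl
    rw [← h2, h1, hs]
  let σ : (Σ i, Fin (e i)) ≃ {x : Fin m.toList.length × ℕ // x.2 < e x.1} :=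
    { toFun := fun x => ⟨(x.1, x.2.1), x.2.2⟩
      invFun := fun x => ⟨x.1.1, ⟨x.1.2, x.2⟩⟩
      left_inv := fun x => rfl
      right_inv := fun x => rfl }
  have hcard : Fintype.card (Fin (Module.finrank F V)) = Fintype.card (Σ i, Fin (e i)) := by
    rw [Fintype.card_fin, Fintype.card_sigma, ← hsum]
    simp
  let b : Module.Basis {x : Fin m.toList.length × ℕ // x.2 < e x.1} F V :=
    (Module.finBasis F V).reindex ((Fintype.equivOfCardEq hcard).trans σ)
  let N : Module.End F V := b.constr F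
    (fun x => if h : x.1.2 + 1 < e x.1.1 then b ⟨(x.1.1, x.1.2 + 1), h⟩ else 0)
  have hb : IsJB N e b := by
    intro x
    exact b.constr_basis F _ x
  have hN : IsNilpotent N := by
    refine ⟨∑ i, e i, ?_⟩
    apply b.ext
    intro x
    rw [isJB_pow N e b hb, dif_neg, LinearMap.zero_apply]
    have : e x.1.1 ≤ ∑ i, e i := Finset.single_le_sum (fun i _ => Nat.zero_le _) (Finset.mem_univ _)
    omega
  refine ⟨N, hN, ?_⟩
  rw [jtype_of_isJB N hN e b hb, pm]
  rw [h1, Multiset.filter_eq_self]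
  intro a ha
  exact (hm a ha).ne'


end Cfsg.Agent.Lib.helper18.Jordan
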