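import Mathlib
import Cfsg.Agent.Lib.helper18.Jordan
set_option autoImplicit false
namespace Cfsg.Agent.Lib.helper18.RCF
open Polynomial DirectSum Cfsg.Agent.Lib.helper18.Jordan

universe u v w
variable {F : Type u} [Field F]

/-- the standard module `⨁ F[X]/(g i)`. -/
abbrev Mg {ι : Type w} (g : ι → F[X]) : Type (max w u) := Π₀ i, F[X] ⧸ F[X] ∙ g i

/-- `h ↦ single i (h mod g i)`, as an `F[X]`-linear map. -/
noncomputable def Wg {ι : Type w} [DecidableEq ι] (g : ι → F[X]) (i : ι) : F[X] →ₗ[F[X]] Mg g :=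
  (DFinsupp.lsingle i).comp (Submodule.mkQ (F[X] ∙ g i))

theorem Wg_apply {ι : Type w} [DecidableEq ι] (g : ι → F[X]) (i : ι) (h : F[X]) :
    Wg g i h = DFinsupp.single i (Submodule.Quotient.mk h) := rfl

theorem X_smul_Wg {ι : Type w} [DecidableEq ι] (g : ι → F[X]) (i : ι) (h : F[X]) :
    (X : F[X]) • Wg g i h = Wg g i (X * h) := by
  rw [← smul_eq_mul, map_smul]

theorem Wg_eq_zero_iff {ι : Type w} [DecidableEq ι] (g : ι → F[X]) (i : ι) (h : F[X]) :
    Wg g i h = 0 ↔ g i ∣ h := by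
  rw [Wg_apply, DFinsupp.single_eq_zero, Submodule.Quotient.mk_eq_zero, Submodule.mem_span_singleton]
  constructor
  · rintro ⟨a, ha⟩; exact ⟨a, by rw [← ha, smul_eq_mul, mul_comm]⟩
  · rintro ⟨a, ha⟩; exact ⟨a, by rw [ha, smul_eq_mul, mul_comm]⟩

theorem Wg_mod {ι : Type w} [DecidableEq ι] (g : ι → F[X]) (hg : ∀ i, (g i).Monic) (i : ι) (h : F[X]) :
    Wg g i h = Wg g i (h %ₘ g i) := by
  have h1 : Wg g i (h - h %ₘ g i) = 0 := by
    rw [Wg_eq_zero_iff]
    exact ⟨h /ₘ g i, by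
      have := Polynomial.modByMonic_add_div h (g i)
      linear_combination -this⟩
  rw [map_sub, sub_eq_zero] at h1
  exact h1

/-- `F`-basis of `F[X]/(g)` for monic `g`. -/
noncomputable def qbg (g : F[X]) (hg : g.Monic) : Module.Basis (Fin g.natDegree) F (F[X] ⧸ F[X] ∙ g) :=
  AdjoinRoot.powerBasisAux' hg

theorem qbg_apply (g : F[X]) (hg : g.Monic) (a : Fin g.natDegree) :
    qbg g hg a = Submodule.Quotient.mk (X ^ (a : ℕ)) := by
  have h := (AdjoinRoot.powerBasis' hg).basis_eq_pow a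
  have h2 : (AdjoinRoot.powerBasisAux' hg) a = AdjoinRoot.root g ^ (a : ℕ) := h
  exact h2

/-- the standard basis of `Mg g`. -/
noncomputable def Bg {ι : Type w} [DecidableEq ι] (g : ι → F[X]) (hg : ∀ i, (g i).Monic) :
    Module.Basis (Σ i, Fin (g i).natDegree) F (Mg g) :=
  DFinsupp.basis (fun i => qbg (g i) (hg i))

theorem Bg_apply {ι : Type w} [DecidableEq ι] (g : ι → F[X]) (hg : ∀ i, (g i).Monic) (i : ι)
    (a : Fin (g i).natDegree) : Bg g hg ⟨i, a⟩ = Wg g i (X ^ (a : ℕ)) := by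
  unfold Bg
  rw [dbasis_apply, Wg_apply, qbg_apply]


theorem exists_rcf {V : Type v} [AddCommGroup V] [Module F V] [FiniteDimensional F V]
    (T : Module.End F V) :
    ∃ (ι : Type u) (_ : Fintype ι) (g : ι → F[X]), (∀ i, (g i).Monic) ∧
      (∀ i, ∃ (p : F[X]) (e : ℕ), Irreducible p ∧ Associated (g i) (p ^ e)) ∧
      ∃ Ψ : V ≃ₗ[F] Mg g, ∀ v, Ψ (T v) = (X : F[X]) • Ψ v := by
  classical
  have hkill : ∀ x : Module.AEval' T, (T.charpoly : F[X]) • x = 0 := by
    intro x
    obtain ⟨m, rfl⟩ := (Module.AEval'.of T).surjective x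
    rw [← Module.AEval.of_aeval_smul, LinearMap.aeval_self_charpoly]
    simp
  have htors : Module.IsTorsion F[X] (Module.AEval' T) := by
    intro x
    exact ⟨⟨T.charpoly, mem_nonZeroDivisors_of_ne_zero (LinearMap.charpoly_monic T).ne_zero⟩, hkill x⟩
  obtain ⟨ι, _, p, hp, e, ⟨φ⟩⟩ := Module.equiv_directSum_of_isTorsion htors
  have hj : ∀ i, Submodule.span F[X] {p i ^ e i} = Submodule.span F[X] {normalize (p i ^ e i)} :=
    fun i => Ideal.span_singleton_eq_span_singleton.2 (associated_normalize _)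
  refine ⟨ι, inferInstance, fun i => normalize (p i ^ e i),
    fun i => Polynomial.monic_normalize (pow_ne_zero _ (hp i).ne_zero),
    fun i => ⟨p i, e i, hp i, (associated_normalize _).symm⟩, ?_⟩
  refine ⟨(Module.AEval'.of T).trans ((φ.trans (DFinsupp.mapRange.linearEquiv
      (fun i => Submodule.quotEquivOfEq _ _ (hj i)))).restrictScalars F), ?_⟩
  intro v
  show (φ.trans (DFinsupp.mapRange.linearEquiv
      (fun i => Submodule.quotEquivOfEq _ _ (hj i)))) (Module.AEval'.of T (T v)) =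
      (X : F[X]) • (φ.trans (DFinsupp.mapRange.linearEquiv
      (fun i => Submodule.quotEquivOfEq _ _ (hj i)))) (Module.AEval'.of T v)
  rw [← map_smul, Module.AEval'.X_smul_of]


theorem dbasis_repr {ι : Type*} {R : Type*} {M : ι → Type*} [DecidableEq ι] [Semiring R]
    [∀ i, AddCommMonoid (M i)] [∀ i, Module R (M i)] {η : ι → Type*}
    (b : ∀ i, Module.Basis (η i) R (M i)) (v : Π₀ i, M i) (i : ι) (x : η i) :
    (DFinsupp.basis b).repr v ⟨i, x⟩ = (b i).repr (v i) x := by
  classical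
  simp only [DFinsupp.basis, Module.Basis.repr_symm_apply, LinearEquiv.trans_apply]
  rfl

theorem det_blockDiagonal'_aux {R : Type*} [CommRing R] {o : Type*} [Fintype o] [DecidableEq o]
    {η : o → Type*} [∀ i, Fintype (η i)] [∀ i, DecidableEq (η i)] (A : ∀ i, Matrix (η i) (η i) R) :
    (Matrix.blockDiagonal' A).det = ∏ i, (A i).det := by
  classical
  letI : LinearOrder o := LinearOrder.lift' (Fintype.equivFin o) (Fintype.equivFin o).injective
  have hM : Matrix.BlockTriangular (Matrix.blockDiagonal' A) (Sigma.fst) := by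
    rintro ⟨i, a⟩ ⟨j, c⟩ hxy
    exact Matrix.blockDiagonal'_apply_ne A a c (ne_of_gt hxy)
  rw [hM.det]
  have hblock : ∀ a, ((Matrix.blockDiagonal' A).toSquareBlock Sigma.fst a).det = (A a).det := by
    intro a
    rw [← Matrix.det_submatrix_equiv_self (Equiv.sigmaSubtype a) (A a)]
    congr 1
    ext ⟨⟨i, u⟩, hi⟩ ⟨⟨j, w⟩, hj⟩
    simp only at hi hj
    subst hi
    subst hj
    simp [Matrix.toSquareBlock_def, Equiv.sigmaSubtype]
  rw [Finset.prod_congr rfl (fun a _ => hblock a)]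
  apply Finset.prod_subset (Finset.subset_univ _)
  intro a _ ha
  have : IsEmpty (η a) := by
    constructor
    intro u
    exact ha (Finset.mem_image.2 ⟨⟨a, u⟩, Finset.mem_univ _, rfl⟩)
  exact Matrix.det_isEmpty

theorem charpoly_blockDiagonal' {o : Type*} [Fintype o] [DecidableEq o] {η : o → Type*}
    [∀ i, Fintype (η i)] [∀ i, DecidableEq (η i)] (A : ∀ i, Matrix (η i) (η i) F) :
    (Matrix.blockDiagonal' A).charpoly = ∏ i, (A i).charpoly := by
  unfold Matrix.charpoly
  rw [← det_blockDiagonal'_aux]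
  congr 1
  unfold Matrix.charmatrix
  rw [show (fun i => (Matrix.scalar (η i)) (X : F[X]) - (C : F →+* F[X]).mapMatrix (A i)) =
    (fun i => (Matrix.scalar (η i)) (X : F[X])) - (fun i => (C : F →+* F[X]).mapMatrix (A i)) from rfl,
    Matrix.blockDiagonal'_sub]
  congr 1
  · ext ⟨i, a⟩ ⟨j, c⟩
    rw [Matrix.blockDiagonal'_apply']
    by_cases h : i = j
    · subst h
      rw [dif_pos rfl]
      simp [Matrix.scalar_apply, Matrix.diagonal_apply]
    · rw [dif_neg h]
      simp [Matrix.scalar_apply, Matrix.diagonal_apply, h]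
  · simp only [RingHom.mapMatrix_apply]
    rw [Matrix.blockDiagonal'_map _ _ (map_zero _)]


/-- `X •` as an `F`-linear endomorphism. -/
noncomputable def XL (M : Type*) [AddCommGroup M] [Module F M] [Module F[X] M] [IsScalarTower F F[X] M] :
    Module.End F M where
  toFun m := (X : F[X]) • m
  map_add' := smul_add _
  map_smul' c m := by
    show (X : F[X]) • (c • m) = c • ((X : F[X]) • m)
    rw [← algebraMap_smul F[X] c m, ← algebraMap_smul F[X] c ((X : F[X]) • m), smul_smul, smul_smul,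
      mul_comm]

theorem XL_apply (M : Type*) [AddCommGroup M] [Module F M] [Module F[X] M] [IsScalarTower F F[X] M]
    (m : M) : XL (F := F) M m = (X : F[X]) • m := rfl

theorem X_smul_eq (g : F[X]) (y : F[X] ⧸ F[X] ∙ g) :
    (X : F[X]) • y = (AdjoinRoot.root g : AdjoinRoot g) * (id y : AdjoinRoot g) := by
  obtain ⟨r, rfl⟩ := Submodule.Quotient.mk_surjective _ y
  rfl

theorem charpoly_XL_quot (g : F[X]) (hg : g.Monic) :
    (LinearMap.toMatrix (qbg g hg) (qbg g hg) (XL (F[X] ⧸ F[X] ∙ g))).charpoly = g := by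
  have h2 := charpoly_leftMulMatrix (AdjoinRoot.powerBasis' hg)
  rw [AdjoinRoot.powerBasis'_gen, AdjoinRoot.minpoly_root hg.ne_zero, hg.leadingCoeff, inv_one, C_1,
    mul_one] at h2
  have h4 : LinearMap.toMatrix (qbg g hg) (qbg g hg) (XL (F[X] ⧸ F[X] ∙ g)) =
      Algebra.leftMulMatrix (AdjoinRoot.powerBasis' hg).basis (AdjoinRoot.root g) := by
    ext i j
    rw [LinearMap.toMatrix_apply, XL_apply, X_smul_eq]
    exact (Algebra.leftMulMatrix_eq_repr_mul (AdjoinRoot.powerBasis' hg).basis (AdjoinRoot.root g) i j).symm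
  rw [h4]
  exact h2

theorem toMatrix_XL_Mg {ι : Type w} [Fintype ι] [DecidableEq ι] (g : ι → F[X]) (hg : ∀ i, (g i).Monic) :
    LinearMap.toMatrix (Bg g hg) (Bg g hg) (XL (Mg g)) =
      Matrix.blockDiagonal' (fun i => LinearMap.toMatrix (qbg (g i) (hg i)) (qbg (g i) (hg i))
        (XL (F[X] ⧸ F[X] ∙ g i))) := by
  ext ⟨i, a⟩ ⟨j, c⟩
  rw [LinearMap.toMatrix_apply, Matrix.blockDiagonal'_apply', XL_apply]
  unfold Bg
  rw [dbasis_repr, dbasis_apply, ← DFinsupp.single_smul]
  by_cases h : i = j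
  · subst h
    rw [dif_pos rfl, DFinsupp.single_eq_same, LinearMap.toMatrix_apply, XL_apply]
    rfl
  · rw [dif_neg h, DFinsupp.single_eq_of_ne h, map_zero]
    rfl

theorem charpoly_of_rcf {V : Type v} [AddCommGroup V] [Module F V] [FiniteDimensional F V]
    (T : Module.End F V) {ι : Type w} [Fintype ι] (g : ι → F[X]) (hg : ∀ i, (g i).Monic)
    (Ψ : V ≃ₗ[F] Mg g) (hΨ : ∀ v, Ψ (T v) = (X : F[X]) • Ψ v) : T.charpoly = ∏ i, g i := by
  classical
  rw [← LinearMap.charpoly_toMatrix T ((Bg g hg).map Ψ.symm)]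
  have h1 : LinearMap.toMatrix ((Bg g hg).map Ψ.symm) ((Bg g hg).map Ψ.symm) T =
      LinearMap.toMatrix (Bg g hg) (Bg g hg) (XL (Mg g)) := by
    ext x y
    rw [LinearMap.toMatrix_apply, LinearMap.toMatrix_apply, Module.Basis.map_repr,
      LinearEquiv.trans_apply, Module.Basis.map_apply, LinearEquiv.symm_symm, hΨ,
      LinearEquiv.apply_symm_apply, XL_apply]
  rw [h1, toMatrix_XL_Mg, charpoly_blockDiagonal']
  apply Finset.prod_congr rfl
  intro i _
  exact charpoly_XL_quot _ (hg i)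


theorem gen_pow {V : Type v} [AddCommGroup V] [Module F V] {M : Type*} [AddCommGroup M] [Module F M]
    [Module F[X] M] [IsScalarTower F F[X] M]
    (T : Module.End F V) (Ψ : V ≃ₗ[F] M) (hΨ : ∀ v, Ψ (T v) = (X : F[X]) • Ψ v) (n : ℕ) (v : V) :
    Ψ ((T ^ n) v) = (X ^ n : F[X]) • Ψ v := by
  induction n generalizing v with
  | zero => simp
  | succ n ih => rw [pow_succ, Module.End.mul_apply, ih, hΨ, smul_smul, pow_succ]

theorem gen_C_smul {M : Type*} [AddCommGroup M] [Module F M]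
    [Module F[X] M] [IsScalarTower F F[X] M] (a : F) (m : M) : (C a : F[X]) • m = a • m := by
  rw [← Polynomial.algebraMap_eq, algebraMap_smul]

theorem gen_aeval {V : Type v} [AddCommGroup V] [Module F V] {M : Type*} [AddCommGroup M] [Module F M]
    [Module F[X] M] [IsScalarTower F F[X] M]
    (T : Module.End F V) (Ψ : V ≃ₗ[F] M) (hΨ : ∀ v, Ψ (T v) = (X : F[X]) • Ψ v) (h : F[X]) (v : V) :
    Ψ (aeval T h v) = h • Ψ v := by
  induction h using Polynomial.induction_on' with
  | add p q hp hq => rw [map_add, LinearMap.add_apply, map_add, hp, hq, add_smul]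
  | monomial n a =>
    rw [aeval_monomial, ← C_mul_X_pow_eq_monomial, mul_smul, ← gen_pow T Ψ hΨ, gen_C_smul]
    rw [Module.algebraMap_end_eq_smul_id, Module.End.mul_apply, LinearMap.smul_apply, LinearMap.id_apply,
      map_smul]

theorem rcf_aeval {V : Type v} [AddCommGroup V] [Module F V]
    (T : Module.End F V) {ι : Type w} (g : ι → F[X])
    (Ψ : V ≃ₗ[F] Mg g) (hΨ : ∀ v, Ψ (T v) = (X : F[X]) • Ψ v) (h : F[X]) (v : V) :
    Ψ (aeval T h v) = h • Ψ v := gen_aeval (M := Mg g) T Ψ hΨ h v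

theorem rcf_dvd {V : Type v} [AddCommGroup V] [Module F V]
    (T : Module.End F V) {ι : Type w} (g : ι → F[X])
    (Ψ : V ≃ₗ[F] Mg g) (hΨ : ∀ v, Ψ (T v) = (X : F[X]) • Ψ v) (h : F[X]) (h0 : aeval T h = 0) (i : ι) :
    g i ∣ h := by
  classical
  have h1 := rcf_aeval T g Ψ hΨ h (Ψ.symm (Wg g i 1))
  rw [h0, LinearMap.zero_apply, map_zero, LinearEquiv.apply_symm_apply, ← map_smul, smul_eq_mul,
    mul_one] at h1
  exact (Wg_eq_zero_iff g i h).1 h1.symm

theorem rcf_semisimple {V : Type v} [AddCommGroup V] [Module F V]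
    (T : Module.End F V) {ι : Type w} (g : ι → F[X]) (hg : ∀ i, (g i).Monic)
    (hpp : ∀ i, ∃ (p : F[X]) (e : ℕ), Irreducible p ∧ Associated (g i) (p ^ e))
    (Ψ : V ≃ₗ[F] Mg g) (hΨ : ∀ v, Ψ (T v) = (X : F[X]) • Ψ v) (m : ℕ) (hm : (m : F) ≠ 0)
    (hT : T ^ m = 1) (i : ι) : g i = 1 ∨ Irreducible (g i) := by
  have h0 : aeval T (X ^ m - 1 : F[X]) = 0 := by
    rw [map_sub, map_pow, aeval_X, map_one, hT, sub_self]
  have h1 := rcf_dvd T g Ψ hΨ _ h0 i
  have hsq : Squarefree (X ^ m - 1 : F[X]) := by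
    have := (separable_X_pow_sub_C (1 : F) hm one_ne_zero).squarefree
    simpa using this
  have hsq' : Squarefree (g i) := hsq.squarefree_of_dvd h1
  obtain ⟨p, e, hp, hass⟩ := hpp i
  rcases Nat.lt_or_ge e 2 with he | he
  · interval_cases e
    · left
      rw [pow_zero] at hass
      exact eq_one_of_monic_natDegree_zero (hg i) (natDegree_eq_zero_of_isUnit (hass.symm.isUnit isUnit_one))
    · right
      rw [pow_one] at hass
      exact hass.symm.irreducible hp
  · exfalso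
    have h2 : p * p ∣ g i := by
      have : p * p ∣ p ^ e := by
        rw [← pow_two]; exact pow_dvd_pow p he
      exact dvd_trans this hass.symm.dvd
    exact hp.not_isUnit (hsq' p h2)

theorem fib_sub' {κ K : Type*} [Fintype κ] [DecidableEq K] (f : κ → K) (z k : K) :
    (Finset.univ.filter (fun i : {i // f i ≠ z} => f i.1 = k)).card =
      if k = z then 0 else (Finset.univ.filter (fun i => f i = k)).card := by
  classical
  split_ifs with hk
  · rw [Finset.card_eq_zero, Finset.filter_eq_empty_iff]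
    intro i _
    rw [hk]; exact i.2
  · apply Finset.card_bij (fun i _ => i.1)
    · intro i hi
      rw [Finset.mem_filter] at hi ⊢
      exact ⟨Finset.mem_univ _, hi.2⟩
    · intro i _ i' _ h
      exact Subtype.ext h
    · intro i hi
      rw [Finset.mem_filter] at hi
      exact ⟨⟨i, by rw [hi.2]; exact hk⟩, by rw [Finset.mem_filter]; exact ⟨Finset.mem_univ _, hi.2⟩, rfl⟩

/-- the standard basis of `Mg g`, indexed by pairs. -/
noncomputable def Pg {ι : Type w} [DecidableEq ι] (g : ι → F[X]) (hg : ∀ i, (g i).Monic) :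
    Module.Basis {x : ι × ℕ // x.2 < (g x.1).natDegree} F (Mg g) :=
  (Bg g hg).reindex
    { toFun := fun x => ⟨(x.1, x.2.1), x.2.2⟩
      invFun := fun x => ⟨x.1.1, ⟨x.1.2, x.2⟩⟩
      left_inv := fun x => rfl
      right_inv := fun x => rfl }

theorem Pg_apply {ι : Type w} [DecidableEq ι] (g : ι → F[X]) (hg : ∀ i, (g i).Monic)
    (x : {x : ι × ℕ // x.2 < (g x.1).natDegree}) : Pg g hg x = Wg g x.1.1 (X ^ x.1.2) := by
  unfold Pg
  rw [Module.Basis.reindex_apply]
  exact Bg_apply g hg x.1.1 ⟨x.1.2, x.2⟩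

theorem Wg_sum {ι : Type w} [DecidableEq ι] (g : ι → F[X]) (hg : ∀ i, (g i).Monic) (i : ι)
    (hi : g i ≠ 1) (h : F[X]) :
    Wg g i h = ∑ a ∈ Finset.range (g i).natDegree, (h %ₘ g i).coeff a • Wg g i (X ^ a) := by
  rw [Wg_mod g hg i h]
  have hlt : (h %ₘ g i).natDegree < (g i).natDegree := natDegree_modByMonic_lt h (hg i) hi
  conv_lhs => rw [as_sum_range' (h %ₘ g i) _ hlt]
  rw [map_sum]
  apply Finset.sum_congr rfl
  intro a _
  rw [← C_mul_X_pow_eq_monomial, ← smul_eq_mul, map_smul]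
  exact gen_C_smul (F := F) (M := Mg g) _ _

theorem Mg_equiv {ι : Type*} {ι' : Type*} [Fintype ι] [Fintype ι'] (g : ι → F[X]) (g' : ι' → F[X])
    (hg : ∀ i, (g i).Monic) (hg' : ∀ i, (g' i).Monic)
    (hcnt : ∀ h : F[X], h ≠ 1 → Nat.card {i // g i = h} = Nat.card {i // g' i = h}) :
    ∃ θ : Mg g ≃ₗ[F] Mg g', ∀ m, θ ((X : F[X]) • m) = (X : F[X]) • θ m := by
  classical
  have hcnt' : ∀ h : F[X], h ≠ 1 → (Finset.univ.filter (fun i => g i = h)).card =
      (Finset.univ.filter (fun i => g' i = h)).card := by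
    intro h hh
    have := hcnt h hh
    rw [Nat.card_eq_fintype_card, Nat.card_eq_fintype_card, Fintype.card_subtype,
      Fintype.card_subtype] at this
    exact this
  obtain ⟨τ, hτ⟩ := exists_equiv_of_fiber (J := {i // g i ≠ 1}) (S := {i // g' i ≠ 1})
    (fun i => g i.1) (fun i => g' i.1) (by
      intro k
      rw [fib_sub' g 1 k, fib_sub' g' 1 k]
      split_ifs with hk
      · rfl
      · exact hcnt' k hk)
  have hτ' : ∀ j, g (τ.symm j).1 = g' j.1 := by
    intro j
    have := hτ (τ.symm j)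
    rw [Equiv.apply_symm_apply] at this
    exact this.symm
  have hne : ∀ x : {x : ι × ℕ // x.2 < (g x.1).natDegree}, g x.1.1 ≠ 1 := by
    intro x h1
    have := x.2
    rw [h1, natDegree_one] at this
    omega
  have hne' : ∀ x : {x : ι' × ℕ // x.2 < (g' x.1).natDegree}, g' x.1.1 ≠ 1 := by
    intro x h1
    have := x.2
    rw [h1, natDegree_one] at this
    omega
  let σ : {x : ι × ℕ // x.2 < (g x.1).natDegree} ≃ {x : ι' × ℕ // x.2 < (g' x.1).natDegree} :=
    { toFun := fun x => ⟨((τ ⟨x.1.1, hne x⟩).1, x.1.2), by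
        show x.1.2 < (g' (τ ⟨x.1.1, _⟩).1).natDegree
        rw [hτ]; exact x.2⟩
      invFun := fun y => ⟨((τ.symm ⟨y.1.1, hne' y⟩).1, y.1.2), by
        show y.1.2 < (g (τ.symm ⟨y.1.1, _⟩).1).natDegree
        rw [hτ']; exact y.2⟩
      left_inv := fun x => by
        apply Subtype.ext
        apply Prod.ext
        · simp
        · rfl
      right_inv := fun y => by
        apply Subtype.ext
        apply Prod.ext
        · simp
        · rfl }
  have key : ∀ (j : {i // g i ≠ 1}) (h : F[X]),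
      (Pg g hg).equiv (Pg g' hg') σ (Wg g j.1 h) = Wg g' (τ j).1 h := by
    intro j h
    rw [Wg_sum g hg j.1 j.2 h, Wg_sum g' hg' (τ j).1 (τ j).2 h, map_sum, hτ j]
    apply Finset.sum_congr rfl
    intro a ha
    rw [Finset.mem_range] at ha
    rw [map_smul]
    congr 1
    have h1 : Wg g j.1 (X ^ a) = Pg g hg ⟨(j.1, a), ha⟩ := (Pg_apply g hg ⟨(j.1, a), ha⟩).symm
    rw [h1, Module.Basis.equiv_apply, Pg_apply]
    rfl
  refine ⟨(Pg g hg).equiv (Pg g' hg') σ, ?_⟩
  have hlin : ((Pg g hg).equiv (Pg g' hg') σ).toLinearMap ∘ₗ XL (Mg g) =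
      XL (Mg g') ∘ₗ ((Pg g hg).equiv (Pg g' hg') σ).toLinearMap := by
    apply (Pg g hg).ext
    intro x
    rw [LinearMap.comp_apply, LinearMap.comp_apply, LinearEquiv.coe_coe, XL_apply, XL_apply, Pg_apply,
      X_smul_Wg, key ⟨x.1.1, hne x⟩, key ⟨x.1.1, hne x⟩, X_smul_Wg]
  intro m
  exact LinearMap.congr_fun hlin m


end Cfsg.Agent.Lib.helper18.RCF
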