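import Mathlib
import Cfsg.Agent.Lib.helper18.RCF
set_option autoImplicit false
namespace Cfsg.Agent.Lib.helper18.RCF
open Polynomial DirectSum Cfsg.Agent.Lib.helper18.Jordan

universe u v w
variable {F : Type u} [Field F]

/-- multiset of nontrivial blocks. -/
noncomputable def blk {ι : Type w} [Fintype ι] (g : ι → F[X]) : Multiset F[X] := by
  classical
  exact (Finset.univ.val.map g).filter (fun h => h ≠ 1)

theorem prod_filter_ne_one {M : Type*} [CommMonoid M] [DecidableEq M] (s : Multiset M) :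
    (s.filter (fun h => h ≠ 1)).prod = s.prod := by
  induction s using Multiset.induction with
  | empty => simp
  | cons a s ih =>
    by_cases ha : a = 1
    · subst ha
      rw [Multiset.filter_cons_of_neg (p := fun h => h ≠ 1) _ (by simp), Multiset.prod_cons, ih, one_mul]
    · rw [Multiset.filter_cons_of_pos (p := fun h => h ≠ 1) _ ha, Multiset.prod_cons, Multiset.prod_cons, ih]

theorem blk_prod {ι : Type w} [Fintype ι] (g : ι → F[X]) : (blk g).prod = ∏ i, g i := by
  classical
  unfold blk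
  rw [prod_filter_ne_one]
  rfl

open Classical in
theorem blk_eq_factors {ι : Type w} [Fintype ι] (g : ι → F[X]) (hg : ∀ i, (g i).Monic)
    (hirr : ∀ i, g i = 1 ∨ Irreducible (g i)) :
    blk g = UniqueFactorizationMonoid.normalizedFactors (∏ i, g i) := by
  rw [← blk_prod, UniqueFactorizationMonoid.normalizedFactors_prod_eq]
  · symm
    refine (Multiset.map_congr rfl ?_).trans (Multiset.map_id _)
    intro h hh
    unfold blk at hh
    rw [Multiset.mem_filter, Multiset.mem_map] at hh
    obtain ⟨⟨i, _, rfl⟩, _⟩ := hh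
    exact (hg i).normalize_eq_self
  · intro h hh
    unfold blk at hh
    rw [Multiset.mem_filter, Multiset.mem_map] at hh
    obtain ⟨⟨i, _, rfl⟩, h1⟩ := hh
    exact (hirr i).resolve_left h1

theorem count_blk {ι : Type w} [Fintype ι] (g : ι → F[X]) (h : F[X]) (hh : h ≠ 1) :
    Nat.card {i // g i = h} = by classical exact (blk g).count h := by
  classical
  unfold blk
  rw [Multiset.count_filter_of_pos (p := fun h => h ≠ 1) hh, Multiset.count_map,
    Nat.card_eq_fintype_card, Fintype.card_subtype, ← Finset.filter_val, Finset.card_val]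
  congr 1
  ext i
  simp [eq_comm]

/-- semisimple endomorphisms with the same characteristic polynomial are similar. -/
theorem ss_sim {V : Type v} [AddCommGroup V] [Module F V] [FiniteDimensional F V]
    (T T' : Module.End F V) (m m' : ℕ) (hm : (m : F) ≠ 0) (hm' : (m' : F) ≠ 0)
    (hT : T ^ m = 1) (hT' : T' ^ m' = 1) (hc : T.charpoly = T'.charpoly) :
    ∃ φ : V ≃ₗ[F] V, ∀ v, φ (T v) = T' (φ v) := by
  classical
  obtain ⟨ι, _, g, hg, hpp, Ψ, hΨ⟩ := exists_rcf T
  obtain ⟨ι', _, g', hg', hpp', Ψ', hΨ'⟩ := exists_rcf T'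
  have hirr := rcf_semisimple T g hg hpp Ψ hΨ m hm hT
  have hirr' := rcf_semisimple T' g' hg' hpp' Ψ' hΨ' m' hm' hT'
  have h1 := blk_eq_factors g hg hirr
  have h2 := blk_eq_factors g' hg' hirr'
  rw [← charpoly_of_rcf T g hg Ψ hΨ] at h1
  rw [← charpoly_of_rcf T' g' hg' Ψ' hΨ', ← hc] at h2
  have hblk : blk g = blk g' := by rw [h1, h2]
  obtain ⟨θ, hθ⟩ := Mg_equiv g g' hg hg' (by
    intro h hh
    rw [count_blk g h hh, count_blk g' h hh, hblk])
  refine ⟨Ψ.trans (θ.trans Ψ'.symm), ?_⟩
  intro v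
  apply Ψ'.injective
  rw [hΨ', LinearEquiv.trans_apply, LinearEquiv.trans_apply, LinearEquiv.apply_symm_apply, hΨ, hθ,
    LinearEquiv.trans_apply, LinearEquiv.trans_apply, LinearEquiv.apply_symm_apply]


theorem gen_sub_one {R M : Type*} [Ring R] [AddCommGroup M] [Module R M] (a : R) (y : M)
    (h : (a - 1) • y = 0) : a • y = y := by
  rw [sub_smul, one_smul, sub_eq_zero] at h
  exact h

theorem Mg_kill {ι : Type w} (g : ι → F[X]) (h : F[X]) (hdiv : ∀ i, g i ∣ h) (y : Mg g) :
    h • y = 0 := by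
  apply DFinsupp.ext
  intro i
  rw [DFinsupp.smul_apply, DFinsupp.zero_apply]
  obtain ⟨r, hr⟩ := Submodule.Quotient.mk_surjective _ (y i)
  rw [← hr, ← Submodule.Quotient.mk_smul, Submodule.Quotient.mk_eq_zero, Submodule.mem_span_singleton]
  obtain ⟨c, hc⟩ := hdiv i
  exact ⟨c * r, by rw [hc, smul_eq_mul, smul_eq_mul]; ring⟩


theorem exists_ss_aux [Fintype F] {V : Type v} [AddCommGroup V] [Module F V] [FiniteDimensional F V]
    {ι : Type w} [Fintype ι] (g : ι → F[X]) (N : ℕ)
    (hL : ∀ i, Irreducible (g i) ∧ (g i).Monic ∧ ¬ ((X : F[X]) ∣ g i) ∧ (g i).natDegree ≤ N)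
    (hdeg : (∏ i, g i).natDegree = Module.finrank F V) :
    ∃ (T : Module.End F V) (m : ℕ), (m : F) ≠ 0 ∧ T ^ m = 1 ∧ T.charpoly = ∏ i, g i := by
  classical
  have hirr : ∀ i, Irreducible (g i) := fun i => (hL i).1
  have hg : ∀ i, (g i).Monic := fun i => (hL i).2.1
  have hfin : Module.Finite F (Mg g) := Module.Finite.of_basis (Bg _ hg)
  have hdim : Module.finrank F V = Module.finrank F (Mg g) := by
    rw [Module.finrank_eq_card_basis (Bg _ hg), Fintype.card_sigma, ← hdeg,
      Polynomial.natDegree_prod_of_monic _ _ (fun i _ => hg i)]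
    simp only [Fintype.card_fin]
  obtain ⟨Ψ⟩ : Nonempty (V ≃ₗ[F] Mg g) := ⟨LinearEquiv.ofFinrankEq _ _ hdim⟩
  have hΨ : ∀ v, Ψ ((Ψ.symm.toLinearMap ∘ₗ XL (Mg g) ∘ₗ Ψ.toLinearMap) v) =
      (X : F[X]) • Ψ v := by
    intro v
    rw [LinearMap.comp_apply, LinearMap.comp_apply, LinearEquiv.coe_coe, LinearEquiv.coe_coe,
      LinearEquiv.apply_symm_apply, XL_apply]
  have hN : 0 < N.factorial := Nat.factorial_pos _
  have hq1 : 1 < Fintype.card F := Fintype.one_lt_card
  have hQ : 1 ≤ Fintype.card F ^ N.factorial := Nat.one_le_pow _ _ (by omega)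
  have hdiv : ∀ i, g i ∣ (X ^ (Fintype.card F ^ N.factorial - 1) - 1 : F[X]) := by
    intro i
    have hd1 : 0 < (g i).natDegree := (hirr i).natDegree_pos
    have hd2 : (g i).natDegree ≤ N := (hL i).2.2.2
    have hd3 := (hirr i).natDegree_dvd_iff_dvd_X_pow_card_pow_sub_X.1 (Nat.dvd_factorial hd1 hd2)
    rw [Nat.card_eq_fintype_card] at hd3
    have hfac : (X ^ (Fintype.card F ^ N.factorial) - X : F[X]) =
        X * (X ^ (Fintype.card F ^ N.factorial - 1) - 1) := by
      rw [mul_sub, mul_one, ← pow_succ', Nat.sub_add_cancel hQ]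
    rw [hfac] at hd3
    rcases (hirr i).prime.dvd_or_dvd hd3 with h1 | h1
    · exfalso
      have hass := (hirr i).associated_of_dvd irreducible_X h1
      exact (hL i).2.2.1 hass.symm.dvd
    · exact h1
  refine ⟨Ψ.symm.toLinearMap ∘ₗ XL (Mg g) ∘ₗ Ψ.toLinearMap,
      Fintype.card F ^ N.factorial - 1, ?_, ?_, ?_⟩
  · rw [Nat.cast_sub hQ, Nat.cast_pow, FiniteField.cast_card_eq_zero, zero_pow hN.ne', Nat.cast_one,
      zero_sub]
    exact neg_ne_zero.2 one_ne_zero
  · apply LinearMap.ext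
    intro v
    apply Ψ.injective
    rw [gen_pow (M := Mg g) _ Ψ hΨ, Module.End.one_apply]
    exact gen_sub_one _ _ (Mg_kill _ _ hdiv _)
  · rw [charpoly_of_rcf _ _ hg Ψ hΨ]

open Classical in
/-- existence of a semisimple endomorphism with prescribed characteristic polynomial. -/
theorem exists_ss [Fintype F] {V : Type v} [AddCommGroup V] [Module F V] [FiniteDimensional F V]
    (f : F[X]) (hf : f.Monic) (hdeg : f.natDegree = Module.finrank F V) (h0 : f.coeff 0 ≠ 0) :
    ∃ (T : Module.End F V) (m : ℕ), (m : F) ≠ 0 ∧ T ^ m = 1 ∧ T.charpoly = f := by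
  obtain ⟨L, hL⟩ : ∃ L : List F[X], (L : Multiset F[X]) = UniqueFactorizationMonoid.normalizedFactors f :=
    ⟨_, Multiset.coe_toList _⟩
  have hmem : ∀ h ∈ L, h ∈ UniqueFactorizationMonoid.normalizedFactors f := by
    intro h hh
    rw [← hL]
    exact hh
  have hirr : ∀ h ∈ L, Irreducible h :=
    fun h hh => UniqueFactorizationMonoid.irreducible_of_normalized_factor _ (hmem h hh)
  have hg : ∀ h ∈ L, h.Monic := by
    intro h hh
    have h1 := UniqueFactorizationMonoid.normalize_normalized_factor _ (hmem h hh)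
    rw [← h1]
    exact Polynomial.monic_normalize (hirr h hh).ne_zero
  have hprod : L.prod = f := by
    have h2 : L.prod = (UniqueFactorizationMonoid.normalizedFactors f).prod := by
      rw [← hL, Multiset.prod_coe]
    rw [h2]
    apply Polynomial.eq_of_monic_of_associated _ hf
      (UniqueFactorizationMonoid.prod_normalizedFactors hf.ne_zero)
    rw [← h2, ← Multiset.prod_coe]
    have := Polynomial.monic_multiset_prod_of_monic (L : Multiset F[X]) id
      (fun h hh => hg h (by simpa using hh))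
    simpa using this
  have hprod' : ∏ i : Fin L.length, L.get i = f := by
    rw [← List.prod_ofFn, List.ofFn_get, hprod]
  obtain ⟨T, m, h1, h2, h3⟩ := exists_ss_aux (V := V)
    (fun i : Fin L.length => L.get i) f.natDegree (by
      intro i
      have hh : L.get i ∈ L := List.get_mem _ _
      refine ⟨hirr _ hh, hg _ hh, ?_, ?_⟩
      · intro hX
        have h2 : (X : F[X]) ∣ f :=
          dvd_trans hX (UniqueFactorizationMonoid.dvd_of_mem_normalizedFactors (hmem _ hh))
        exact h0 (Polynomial.X_dvd_iff.1 h2)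
      · exact Polynomial.natDegree_le_of_dvd
          (UniqueFactorizationMonoid.dvd_of_mem_normalizedFactors (hmem _ hh)) hf.ne_zero)
    (by rw [hprod', hdeg])
  exact ⟨T, m, h1, h2, by rw [h3, hprod']⟩


/-- `h •` as an `F`-linear endomorphism. -/
noncomputable def hL (M : Type*) [AddCommGroup M] [Module F M] [Module F[X] M] [IsScalarTower F F[X] M]
    (h : F[X]) : Module.End F M where
  toFun m := h • m
  map_add' := smul_add _
  map_smul' c m := by
    show h • (c • m) = c • (h • m)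
    rw [← algebraMap_smul F[X] c m, ← algebraMap_smul F[X] c (h • m), smul_smul, smul_smul,
      mul_comm]

theorem hL_apply (M : Type*) [AddCommGroup M] [Module F M] [Module F[X] M] [IsScalarTower F F[X] M]
    (h : F[X]) (m : M) : hL (F := F) M h m = h • m := rfl

theorem h_smul_eq (g h : F[X]) (y : F[X] ⧸ F[X] ∙ g) :
    h • y = (AdjoinRoot.mk g h : AdjoinRoot g) * (id y : AdjoinRoot g) := by
  obtain ⟨r, rfl⟩ := Submodule.Quotient.mk_surjective _ y
  rfl

theorem det_hL_quot (g : F[X]) (hg : g.Monic) (h : F[X]) :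
    (LinearMap.toMatrix (qbg g hg) (qbg g hg) (hL (F[X] ⧸ F[X] ∙ g) h)).det =
      Algebra.norm F (AdjoinRoot.mk g h) := by
  rw [Algebra.norm_eq_matrix_det (AdjoinRoot.powerBasis' hg).basis]
  congr 1

/-- blockwise multiplication by polynomials. -/
noncomputable def Zg {ι : Type w} [DecidableEq ι] (g : ι → F[X]) (k : ι → F[X]) : Mg g →ₗ[F] Mg g :=
  DFinsupp.mapRange.linearMap (fun i => hL (F[X] ⧸ F[X] ∙ g i) (k i))

theorem Zg_apply {ι : Type w} [DecidableEq ι] (g : ι → F[X]) (k : ι → F[X]) (m : Mg g) (i : ι) :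
    Zg g k m i = k i • m i := rfl

theorem gen_comm {R M : Type*} [CommRing R] [AddCommGroup M] [Module R M] (a b : R) (y : M) :
    a • b • y = b • a • y := smul_comm a b y

theorem Zg_comm {ι : Type w} [DecidableEq ι] (g : ι → F[X]) (k : ι → F[X]) (m : Mg g) :
    Zg g k ((X : F[X]) • m) = (X : F[X]) • Zg g k m := by
  apply DFinsupp.ext
  intro i
  rw [Zg_apply, DFinsupp.smul_apply, DFinsupp.smul_apply, Zg_apply]
  exact gen_comm _ _ _

theorem toMatrix_Zg {ι : Type w} [Fintype ι] [DecidableEq ι] (g : ι → F[X]) (hg : ∀ i, (g i).Monic)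
    (k : ι → F[X]) :
    LinearMap.toMatrix (Bg g hg) (Bg g hg) (Zg g k) =
      Matrix.blockDiagonal' (fun i => LinearMap.toMatrix (qbg (g i) (hg i)) (qbg (g i) (hg i))
        (hL (F[X] ⧸ F[X] ∙ g i) (k i))) := by
  ext ⟨i, a⟩ ⟨j, c⟩
  rw [LinearMap.toMatrix_apply, Matrix.blockDiagonal'_apply']
  unfold Bg
  rw [dbasis_repr, dbasis_apply, Zg_apply]
  by_cases h : i = j
  · subst h
    rw [dif_pos rfl, DFinsupp.single_eq_same, LinearMap.toMatrix_apply, hL_apply]
    rfl
  · rw [dif_neg h, DFinsupp.single_eq_of_ne h, smul_zero, map_zero]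
    rfl

theorem exists_comm_det [Fintype F] {V : Type v} [AddCommGroup V] [Module F V] [FiniteDimensional F V]
    (T : Module.End F V) (m : ℕ) (hm : (m : F) ≠ 0) (hT : T ^ m = 1)
    (hV : 0 < Module.finrank F V) (a : F) :
    ∃ Z : Module.End F V, Z ∘ₗ T = T ∘ₗ Z ∧ LinearMap.det Z = a := by
  classical
  obtain ⟨ι, _, g, hg, hpp, Ψ, hΨ⟩ := exists_rcf T
  have hirr := rcf_semisimple T g hg hpp Ψ hΨ m hm hT
  have hex : ∃ i₀, g i₀ ≠ 1 := by
    by_contra hcon
    push Not at hcon
    have : Module.finrank F V = 0 := by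
      rw [LinearEquiv.finrank_eq Ψ, Module.finrank_eq_card_basis (Bg g hg), Fintype.card_sigma]
      apply Finset.sum_eq_zero
      intro i _
      rw [hcon i]
      simp
    omega
  obtain ⟨i₀, hi₀⟩ := hex
  have hi := (hirr i₀).resolve_left hi₀
  have : Fact (Irreducible (g i₀)) := ⟨hi⟩
  have : Module.Finite F (AdjoinRoot (g i₀)) := (AdjoinRoot.powerBasis' (hg i₀)).finite
  have : Finite (AdjoinRoot (g i₀)) := Module.finite_of_finite F
  obtain ⟨α, hα⟩ := FiniteField.norm_surjective F (AdjoinRoot (g i₀)) a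
  obtain ⟨h, rfl⟩ := AdjoinRoot.mk_surjective α
  refine ⟨(Ψ.symm : Mg g →ₗ[F] V) ∘ₗ Zg g (fun i => if i = i₀ then h else 1) ∘ₗ
    (Ψ.symm.symm : V →ₗ[F] Mg g), ?_, ?_⟩
  · apply LinearMap.ext
    intro v
    apply Ψ.injective
    simp only [LinearMap.comp_apply, LinearEquiv.coe_coe, LinearEquiv.apply_symm_apply,
      LinearEquiv.symm_symm]
    rw [hΨ, hΨ, LinearEquiv.apply_symm_apply, Zg_comm]
  · refine (LinearMap.det_conj (M := Mg g) (N := V) (Zg g (fun i => if i = i₀ then h else 1)) Ψ.symm).trans ?_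
    rw [← LinearMap.det_toMatrix (Bg g hg), toMatrix_Zg, det_blockDiagonal'_aux,
      Finset.prod_eq_single i₀]
    · rw [if_pos rfl, det_hL_quot, hα]
    · intro i _ hne
      rw [if_neg hne]
      have : hL (F[X] ⧸ F[X] ∙ g i) (1 : F[X]) = LinearMap.id := by
        apply LinearMap.ext
        intro y
        rw [hL_apply, one_smul, LinearMap.id_apply]
      rw [this, LinearMap.toMatrix_id, Matrix.det_one]
    · intro hh
      exact absurd (Finset.mem_univ _) hh

end Cfsg.Agent.Lib.helper18.RCF
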