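import Mathlib
import Cfsg.Agent.Lib.helper18.RCF2
set_option autoImplicit false
namespace Cfsg.Agent.Lib.helper18.RCF
open Polynomial

universe u
variable {F : Type u} [Field F]

theorem ss_conj_mat {n : ℕ} (A B : Matrix (Fin n) (Fin n) F) (m m' : ℕ) (hm : (m : F) ≠ 0)
    (hm' : (m' : F) ≠ 0) (hA : A ^ m = 1) (hB : B ^ m' = 1) (hc : A.charpoly = B.charpoly) :
    ∃ C D : Matrix (Fin n) (Fin n) F, C * D = 1 ∧ D * C = 1 ∧ C * A = B * C := by
  have hT : (Matrix.toLin' A) ^ m = 1 := by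
    rw [← Matrix.toLin'_pow, hA, Matrix.toLin'_one]; rfl
  have hT' : (Matrix.toLin' B) ^ m' = 1 := by
    rw [← Matrix.toLin'_pow, hB, Matrix.toLin'_one]; rfl
  obtain ⟨φ, hφ⟩ := ss_sim (Matrix.toLin' A) (Matrix.toLin' B) m m' hm hm' hT hT'
    (by rw [Matrix.charpoly_toLin', Matrix.charpoly_toLin', hc])
  refine ⟨LinearMap.toMatrix' (φ : (Fin n → F) →ₗ[F] (Fin n → F)),
    LinearMap.toMatrix' (φ.symm : (Fin n → F) →ₗ[F] (Fin n → F)), ?_, ?_, ?_⟩
  · rw [← LinearMap.toMatrix'_comp, LinearEquiv.comp_coe, LinearEquiv.symm_trans_self,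
      LinearEquiv.refl_toLinearMap, LinearMap.toMatrix'_id]
  · rw [← LinearMap.toMatrix'_comp, LinearEquiv.comp_coe, LinearEquiv.self_trans_symm,
      LinearEquiv.refl_toLinearMap, LinearMap.toMatrix'_id]
  · have h3 : (φ : (Fin n → F) →ₗ[F] (Fin n → F)) ∘ₗ Matrix.toLin' A =
        Matrix.toLin' B ∘ₗ (φ : (Fin n → F) →ₗ[F] (Fin n → F)) := LinearMap.ext hφ
    have h4 := congrArg LinearMap.toMatrix' h3
    rw [LinearMap.toMatrix'_comp, LinearMap.toMatrix'_comp, LinearMap.toMatrix'_toLin',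
      LinearMap.toMatrix'_toLin'] at h4
    exact h4

theorem ss_conj_mat_det [Fintype F] {n : ℕ} (hn : 0 < n) (A B : Matrix (Fin n) (Fin n) F) (m m' : ℕ)
    (hm : (m : F) ≠ 0) (hm' : (m' : F) ≠ 0) (hA : A ^ m = 1) (hB : B ^ m' = 1)
    (hc : A.charpoly = B.charpoly) :
    ∃ C D : Matrix (Fin n) (Fin n) F, C * D = 1 ∧ D * C = 1 ∧ C * A = B * C ∧ C.det = 1 := by
  obtain ⟨C, D, h1, h2, h3⟩ := ss_conj_mat A B m m' hm hm' hA hB hc
  have hdet : C.det * D.det = 1 := by rw [← Matrix.det_mul, h1, Matrix.det_one]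
  have hT : (Matrix.toLin' A) ^ m = 1 := by
    rw [← Matrix.toLin'_pow, hA, Matrix.toLin'_one]; rfl
  obtain ⟨Z, hZ1, hZ2⟩ := exists_comm_det (Matrix.toLin' A) m hm hT
    (by rw [Module.finrank_fin_fun]; exact hn) (D.det)
  have hZdet : (LinearMap.toMatrix' Z).det = D.det := by
    rw [LinearMap.det_toMatrix']; exact hZ2
  have hZA : LinearMap.toMatrix' Z * A = A * LinearMap.toMatrix' Z := by
    have := congrArg LinearMap.toMatrix' hZ1
    rwa [LinearMap.toMatrix'_comp, LinearMap.toMatrix'_comp, LinearMap.toMatrix'_toLin'] at this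
  have hunit : IsUnit (LinearMap.toMatrix' Z).det := by
    rw [hZdet]
    exact IsUnit.mk0 _ (by intro h0; rw [h0, mul_zero] at hdet; exact zero_ne_one hdet)
  refine ⟨C * LinearMap.toMatrix' Z, (LinearMap.toMatrix' Z)⁻¹ * D, ?_, ?_, ?_, ?_⟩
  · rw [Matrix.mul_assoc, ← Matrix.mul_assoc (LinearMap.toMatrix' Z), Matrix.mul_nonsing_inv _ hunit,
      Matrix.one_mul, h1]
  · rw [Matrix.mul_assoc, ← Matrix.mul_assoc D, h2, Matrix.one_mul, Matrix.nonsing_inv_mul _ hunit]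
  · rw [Matrix.mul_assoc, hZA, ← Matrix.mul_assoc, h3, Matrix.mul_assoc]
  · rw [Matrix.det_mul, hZdet, hdet]

theorem exists_ss_mat [Fintype F] {n : ℕ} (f : F[X]) (hf : f.Monic) (hdeg : f.natDegree = n)
    (h0 : f.coeff 0 ≠ 0) :
    ∃ (A : Matrix (Fin n) (Fin n) F) (m : ℕ), (m : F) ≠ 0 ∧ A ^ m = 1 ∧ A.charpoly = f := by
  obtain ⟨T, m, h1, h2, h3⟩ := exists_ss (V := Fin n → F) f hf
    (by rw [hdeg, Module.finrank_fin_fun]) h0
  refine ⟨LinearMap.toMatrix' T, m, h1, ?_, ?_⟩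
  · apply Matrix.toLin'.injective
    rw [Matrix.toLin'_pow, Matrix.toLin'_toMatrix', h2, Matrix.toLin'_one]; rfl
  · rw [← Matrix.charpoly_toLin', Matrix.toLin'_toMatrix', h3]

/-- monic polynomial with prescribed lower coefficients. -/
noncomputable def mkpoly (n : ℕ) (c : Fin n → F) : F[X] := X ^ n + ∑ i : Fin n, C (c i) * X ^ (i : ℕ)

theorem mkpoly_monic (n : ℕ) (c : Fin n → F) : (mkpoly n c).Monic :=
  monic_X_pow_add (degree_sum_fin_lt c)

theorem mkpoly_natDegree (n : ℕ) (c : Fin n → F) : (mkpoly n c).natDegree = n := by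
  have h1 : (mkpoly n c).degree = n := by
    unfold mkpoly
    rw [degree_add_eq_left_of_degree_lt, degree_X_pow]
    rw [degree_X_pow]
    exact degree_sum_fin_lt c
  exact natDegree_eq_of_degree_eq_some h1

theorem mkpoly_coeff (n : ℕ) (c : Fin n → F) (j : Fin n) : (mkpoly n c).coeff j = c j := by
  unfold mkpoly
  rw [coeff_add, coeff_X_pow, if_neg (ne_of_lt j.2), zero_add, finset_sum_coeff,
    Finset.sum_eq_single j]
  · rw [coeff_C_mul_X_pow, if_pos rfl]
  · intro i _ hij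
    rw [coeff_C_mul_X_pow, if_neg]
    intro h
    exact hij (Fin.ext h.symm)
  · intro h
    exact absurd (Finset.mem_univ _) h

theorem monic_ext_of_coeff {f f' : F[X]} (hf : f.Monic) (hf' : f'.Monic) (n : ℕ)
    (hd : f.natDegree = n) (hd' : f'.natDegree = n) (h : ∀ i < n, f.coeff i = f'.coeff i) : f = f' := by
  ext k
  rcases lt_trichotomy k n with hk | hk | hk
  · exact h k hk
  · subst hk
    have h1 : f.coeff f.natDegree = 1 := hf.coeff_natDegree
    have h2 : f'.coeff f'.natDegree = 1 := hf'.coeff_natDegree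
    rw [hd'] at h2
    rw [hd] at h1
    rw [h1, h2]
  · rw [coeff_eq_zero_of_natDegree_lt (by omega), coeff_eq_zero_of_natDegree_lt (by omega)]

theorem card_fun_ne_zero [Fintype F] (k : ℕ) :
    Nat.card {c : Fin (k + 1) → F // c 0 ≠ 0} = (Fintype.card F - 1) * Fintype.card F ^ k := by
  classical
  have e1 : {c : Fin (k + 1) → F // c 0 ≠ 0} ≃ {s : F × (Fin k → F) // s.1 ≠ 0} :=
    Equiv.subtypeEquiv (Fin.consEquiv (fun _ => F)).symm (by intro c; rfl)
  have e2 : {s : F × (Fin k → F) // s.1 ≠ 0} ≃ {a : F // a ≠ 0} × (Fin k → F) :=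
    Equiv.prodSubtypeFstEquivSubtypeProd (p := fun a : F => a ≠ 0)
  rw [Nat.card_congr e1, Nat.card_congr e2, Nat.card_prod,
    Nat.card_fun, Nat.card_eq_fintype_card, Nat.card_eq_fintype_card, Nat.card_eq_fintype_card,
    Fintype.card_fin, Fintype.card_subtype_compl, Fintype.card_subtype_eq]

theorem cast_ne_zero_of_coprime (p : ℕ) [Fact p.Prime] [CharP F p] (m : ℕ) (h : m.Coprime p) :
    (m : F) ≠ 0 := by
  rw [Ne, CharP.cast_eq_zero_iff F p]
  intro hdvd
  have h1 : p = 1 := Nat.Coprime.eq_one_of_dvd h.symm hdvd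
  exact (Fact.out : p.Prime).one_lt.ne' h1

theorem coprime_of_cast_ne_zero (p : ℕ) [Fact p.Prime] [CharP F p] (m : ℕ) (h : (m : F) ≠ 0) :
    m.Coprime p := by
  rw [Nat.coprime_comm, (Fact.out : p.Prime).coprime_iff_not_dvd]
  intro hdvd
  exact h ((CharP.cast_eq_zero_iff F p m).2 hdvd)

theorem coprime_orderOf {G : Type*} [Monoid G] (p : ℕ) (g : G) (m : ℕ) (hg : g ^ m = 1)
    (hm : m.Coprime p) : (orderOf g).Coprime p :=
  Nat.Coprime.coprime_dvd_left (orderOf_dvd_of_pow_eq_one hg) hm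

end Cfsg.Agent.Lib.helper18.RCF
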