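import Mathlib
import Cfsg.Agent.Lib.helper18.RCF3
set_option autoImplicit false
namespace Cfsg.Agent.Lib.helper18.RCF
open Polynomial

universe u v w
variable {F : Type u} [Field F]

theorem factor_dvd_of_aeval {V : Type v} [AddCommGroup V] [Module F V] [FiniteDimensional F V]
    (T : Module.End F V) (P : F[X]) (hP : aeval T P = 0) (h : F[X]) (hh : Irreducible h)
    (hd : h ∣ T.charpoly) : h ∣ P := by
  classical
  obtain ⟨ι, _, g, hg, hpp, Ψ, hΨ⟩ := exists_rcf T
  rw [charpoly_of_rcf T g hg Ψ hΨ] at hd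
  obtain ⟨i, _, hi⟩ := (hh.prime.dvd_finset_prod_iff _).1 hd
  exact dvd_trans hi (rcf_dvd T g Ψ hΨ P hP i)

theorem exists_end_of_dvd {V : Type v} [AddCommGroup V] [Module F V] [FiniteDimensional F V]
    {ι : Type w} [Fintype ι] (g : ι → F[X]) (P : F[X]) (hL : ∀ i, (g i).Monic ∧ g i ∣ P)
    (hdeg : (∏ i, g i).natDegree = Module.finrank F V) :
    ∃ T : Module.End F V, aeval T P = 0 ∧ T.charpoly = ∏ i, g i := by
  classical
  have hg : ∀ i, (g i).Monic := fun i => (hL i).1
  have hfin : Module.Finite F (Mg g) := Module.Finite.of_basis (Bg _ hg)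
  have hdim : Module.finrank F V = Module.finrank F (Mg g) := by
    rw [Module.finrank_eq_card_basis (Bg _ hg), Fintype.card_sigma, ← hdeg,
      Polynomial.natDegree_prod_of_monic _ _ (fun i _ => hg i)]
    simp only [Fintype.card_fin]
  obtain ⟨Ψ⟩ : Nonempty (V ≃ₗ[F] Mg g) := ⟨LinearEquiv.ofFinrankEq _ _ hdim⟩
  have hΨ : ∀ v, Ψ ((Ψ.symm.toLinearMap ∘ₗ XL (Mg g) ∘ₗ Ψ.toLinearMap) v) =
      (X : F[X]) • Ψ v := by
    intro v
    rw [LinearMap.comp_apply, LinearMap.comp_apply, LinearEquiv.coe_coe, LinearEquiv.coe_coe,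
      LinearEquiv.apply_symm_apply, XL_apply]
  refine ⟨Ψ.symm.toLinearMap ∘ₗ XL (Mg g) ∘ₗ Ψ.toLinearMap, ?_, ?_⟩
  · apply LinearMap.ext
    intro v
    apply Ψ.injective
    rw [gen_aeval (M := Mg g) _ Ψ hΨ, LinearMap.zero_apply, map_zero]
    exact Mg_kill _ _ (fun i => (hL i).2) _
  · rw [charpoly_of_rcf _ _ hg Ψ hΨ]

theorem exists_mat_of_multiset {n : ℕ} (M : Multiset F[X]) (r : ℕ)
    (hM : ∀ h ∈ M, h.Monic ∧ h ∣ (X ^ r - 1 : F[X])) (hdeg : (M.map natDegree).sum = n) :
    ∃ A : Matrix (Fin n) (Fin n) F, A ^ r = 1 ∧ A.charpoly = M.prod := by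
  obtain ⟨L, rfl⟩ : ∃ L : List F[X], (L : Multiset F[X]) = M := ⟨M.toList, Multiset.coe_toList _⟩
  have hprod' : ∏ i : Fin L.length, L.get i = L.prod := by
    rw [← List.prod_ofFn, List.ofFn_get]
  obtain ⟨T, hT, hc⟩ := exists_end_of_dvd (V := Fin n → F) (fun i : Fin L.length => L.get i)
    (X ^ r - 1) (fun i => hM _ (List.get_mem _ _)) (by
      rw [hprod', Module.finrank_fin_fun, ← hdeg]
      have := Polynomial.natDegree_multiset_prod_of_monic (L : Multiset F[X]) (fun h hh => (hM h hh).1)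
      rw [Multiset.prod_coe] at this
      exact this)
  refine ⟨LinearMap.toMatrix' T, ?_, ?_⟩
  · apply Matrix.toLin'.injective
    rw [Matrix.toLin'_pow, Matrix.toLin'_toMatrix', Matrix.toLin'_one]
    rw [map_sub, map_pow, aeval_X, map_one, sub_eq_zero] at hT
    exact hT
  · rw [← Matrix.charpoly_toLin', Matrix.toLin'_toMatrix', hc, hprod', Multiset.prod_coe]

theorem factor_dvd_of_pow_eq_one {n : ℕ} (A : Matrix (Fin n) (Fin n) F) (r : ℕ) (hA : A ^ r = 1)
    (h : F[X]) (hh : Irreducible h) (hd : h ∣ A.charpoly) : h ∣ (X ^ r - 1 : F[X]) := by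
  apply factor_dvd_of_aeval (Matrix.toLin' A) _ _ h hh (by rw [Matrix.charpoly_toLin']; exact hd)
  rw [map_sub, map_pow, aeval_X, map_one, ← Matrix.toLin'_pow, hA, Matrix.toLin'_one]
  exact sub_self _



theorem ms_decomp {α : Type*} [DecidableEq α] (x₀ : α) (M : Multiset α) :
    M = M.filter (fun h => h ≠ x₀) + Multiset.replicate (M.count x₀) x₀ := by
  have h1 := Multiset.filter_add_not (fun h => h ≠ x₀) M
  have h2 : M.filter (fun h => ¬ (h ≠ x₀)) = Multiset.replicate (M.count x₀) x₀ := by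
    rw [← Multiset.filter_eq' M x₀]
    apply Multiset.filter_congr
    intro h _
    exact not_not
  rw [h2] at h1
  exact h1.symm

theorem ms_filter_add {α : Type*} [DecidableEq α] (x₀ : α) (M' : Multiset α)
    (hM' : ∀ h ∈ M', h ≠ x₀) (k : ℕ) :
    (M' + Multiset.replicate k x₀).filter (fun h => h ≠ x₀) = M' := by
  rw [Multiset.filter_add, Multiset.filter_eq_self.2 hM', Multiset.filter_eq_nil.2, add_zero]
  intro h hh
  rw [Multiset.eq_of_mem_replicate hh]
  exact not_not.2 rfl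

theorem ms_count_add {α : Type*} [DecidableEq α] (x₀ : α) (M' : Multiset α)
    (hM' : ∀ h ∈ M', h ≠ x₀) (k : ℕ) :
    (M' + Multiset.replicate k x₀).count x₀ = k := by
  rw [Multiset.count_add, Multiset.count_replicate_self, Multiset.count_eq_zero_of_notMem, zero_add]
  intro hmem
  exact hM' _ hmem rfl

theorem card_slack {α : Type*} [DecidableEq α] (x₀ : α) (S : Finset α) (hx : x₀ ∉ S)
    (ok : ℕ → Prop) (slack : ℕ → ℕ) :
    Nat.card {M : Multiset α // (∀ h ∈ M, h = x₀ ∨ h ∈ S) ∧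
      ok (Multiset.card (M.filter (fun h => h ≠ x₀))) ∧
      M.count x₀ = slack (Multiset.card (M.filter (fun h => h ≠ x₀)))} =
    Nat.card {M' : Multiset α // (∀ h ∈ M', h ∈ S) ∧ ok (Multiset.card M')} := by
  have hne : ∀ M' : Multiset α, (∀ h ∈ M', h ∈ S) → ∀ h ∈ M', h ≠ x₀ := by
    intro M' hM' h hh heq
    exact hx (heq ▸ hM' h hh)
  apply Nat.card_congr
  refine Equiv.ofBijective (fun M => ⟨M.1.filter (fun h => h ≠ x₀), ?_, M.2.2.1⟩) ⟨?_, ?_⟩
  · intro h hh
    rw [Multiset.mem_filter] at hh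
    exact (M.2.1 h hh.1).resolve_left hh.2
  · rintro ⟨M₁, h1, h2, h3⟩ ⟨M₂, h1', h2', h3'⟩ heq
    have heq' : M₁.filter (fun h => h ≠ x₀) = M₂.filter (fun h => h ≠ x₀) := congrArg Subtype.val heq
    apply Subtype.ext
    show M₁ = M₂
    rw [ms_decomp x₀ M₁, ms_decomp x₀ M₂, h3, h3', heq']
  · rintro ⟨M', h1, h2⟩
    have hf := ms_filter_add x₀ M' (hne M' h1) (slack (Multiset.card M'))
    refine ⟨⟨M' + Multiset.replicate (slack (Multiset.card M')) x₀, ?_, ?_, ?_⟩, ?_⟩
    · intro h hh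
      rw [Multiset.mem_add] at hh
      rcases hh with hh | hh
      · exact Or.inr (h1 h hh)
      · exact Or.inl (Multiset.eq_of_mem_replicate hh)
    · rw [hf]; exact h2
    · rw [hf, ms_count_add x₀ M' (hne M' h1)]
    · apply Subtype.ext; exact hf

theorem ms_card_decomp {α : Type*} [DecidableEq α] (x₀ : α) (M : Multiset α) :
    Multiset.card M = Multiset.card (M.filter (fun h => h ≠ x₀)) + M.count x₀ := by
  conv_lhs => rw [ms_decomp x₀ M]
  rw [Multiset.card_add, Multiset.card_replicate]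

theorem card_multiset_le {α : Type*} [DecidableEq α] (x₀ : α) (S : Finset α) (hx : x₀ ∉ S) (N : ℕ) :
    Nat.card {M' : Multiset α // (∀ h ∈ M', h ∈ S) ∧ Multiset.card M' ≤ N} =
      (N + S.card).choose S.card := by
  rw [← card_slack x₀ S hx (fun c => c ≤ N) (fun c => N - c)]
  have e : {M : Multiset α // (∀ h ∈ M, h = x₀ ∨ h ∈ S) ∧
      Multiset.card (M.filter (fun h => h ≠ x₀)) ≤ N ∧
      M.count x₀ = N - Multiset.card (M.filter (fun h => h ≠ x₀))} ≃
      {f : α →₀ ℕ // f ∈ (insert x₀ S).finsuppAntidiag N} := by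
    refine Equiv.subtypeEquiv Multiset.toFinsupp.toEquiv ?_
    intro M
    rw [Finset.mem_finsuppAntidiag]
    have hcard := ms_card_decomp x₀ M
    have hsum : (∀ h ∈ M, h ∈ insert x₀ S) →
        (insert x₀ S).sum (fun a => M.count a) = Multiset.card M := by
      intro hM
      rw [← Multiset.toFinset_sum_count_eq M]
      symm
      apply Finset.sum_subset
      · intro a ha
        exact hM a (Multiset.mem_toFinset.1 ha)
      · intro a _ ha
        exact Multiset.count_eq_zero_of_notMem (fun h => ha (Multiset.mem_toFinset.2 h))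
    have hs : (insert x₀ S).sum (⇑(Multiset.toFinsupp.toEquiv M)) =
        (insert x₀ S).sum (fun a => M.count a) :=
      Finset.sum_congr rfl (fun a _ => Multiset.toFinsupp_apply M a)
    have hsupp : (Multiset.toFinsupp.toEquiv M).support = M.toFinset := Multiset.toFinsupp_support M
    rw [hs, hsupp]
    constructor
    · rintro ⟨h1, h2, h3⟩
      have hM : ∀ h ∈ M, h ∈ insert x₀ S := by
        intro h hh
        rw [Finset.mem_insert]
        exact h1 h hh
      refine ⟨?_, ?_⟩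
      · rw [hsum hM]; omega
      · intro a ha
        exact hM a (Multiset.mem_toFinset.1 ha)
    · rintro ⟨h1, h2⟩
      have hM : ∀ h ∈ M, h ∈ insert x₀ S := fun h hh => h2 (Multiset.mem_toFinset.2 hh)
      rw [hsum hM] at h1
      refine ⟨?_, ?_, ?_⟩
      · intro h hh
        exact Finset.mem_insert.1 (hM h hh)
      · omega
      · omega
  rw [Nat.card_congr e, Nat.card_eq_fintype_card, Fintype.card_coe,
    Finset.card_finsuppAntidiag_nat_eq_choose, Finset.card_insert_of_notMem hx,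
    show S.card + 1 + N - 1 = N + S.card by omega, Nat.choose_symm_add]

theorem card_multiset_le_ne {α : Type*} [DecidableEq α] (x₀ : α) (S : Finset α) (hx : x₀ ∉ S) (N : ℕ) :
    Nat.card {M' : Multiset α // (∀ h ∈ M', h ∈ S) ∧
      (Multiset.card M' ≠ 0 ∧ Multiset.card M' ≤ N)} = (N + S.card).choose S.card - 1 := by
  have h1 := card_multiset_le x₀ S hx N
  have h2 : {M' : Multiset α | (∀ h ∈ M', h ∈ S) ∧ (Multiset.card M' ≠ 0 ∧ Multiset.card M' ≤ N)} =
      {M' : Multiset α | (∀ h ∈ M', h ∈ S) ∧ Multiset.card M' ≤ N} \ {0} := by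
    ext M'
    simp only [Set.mem_setOf_eq, Set.mem_diff, Set.mem_singleton_iff, ne_eq, Multiset.card_eq_zero]
    tauto
  have h3 : Nat.card {M' : Multiset α // (∀ h ∈ M', h ∈ S) ∧
      (Multiset.card M' ≠ 0 ∧ Multiset.card M' ≤ N)} =
      Set.ncard {M' : Multiset α | (∀ h ∈ M', h ∈ S) ∧ (Multiset.card M' ≠ 0 ∧ Multiset.card M' ≤ N)} :=
    _root_.Nat.card_coe_set_eq _
  have h4 : Nat.card {M' : Multiset α // (∀ h ∈ M', h ∈ S) ∧ Multiset.card M' ≤ N} =
      Set.ncard {M' : Multiset α | (∀ h ∈ M', h ∈ S) ∧ Multiset.card M' ≤ N} :=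
    _root_.Nat.card_coe_set_eq _
  rw [h3, h2, Set.ncard_diff_singleton_of_mem, ← h4, h1]
  simp


end Cfsg.Agent.Lib.helper18.RCF
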