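import Mathlib
import Cfsg.Agent.Lib.helper4.SpSSCount
import Cfsg.Agent.Lib.helper18.RCF4
import Cfsg.Agent.S0752

set_option autoImplicit false

namespace Cfsg.Agent.Lib.helper18.SpRz

open Polynomial
open scoped Matrix
open Cfsg.Agent.Lib.helper4.AltEquiv Cfsg.Agent.Lib.helper4.SympConjCorner Cfsg.Agent.Lib.helper4
open Cfsg.Agent.Lib.helper18.RCF

universe u
variable {F : Type u} [Field F]

/-- `χ` is the characteristic polynomial of an isometry `g`, with `g ^ r = 1`, of a nondegenerate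
alternating form on a space of dimension `deg χ`. -/
def Rz (r : ℕ) (χ : F[X]) : Prop :=
  ∃ (ι : Type) (_ : Fintype ι) (_ : DecidableEq ι) (g gi Ω Ωi : Matrix ι ι F),
    Fintype.card ι = χ.natDegree ∧ g * gi = 1 ∧ g ^ r = 1 ∧
    gᵀ * Ω * g = Ω ∧ (∀ x : ι → F, x ⬝ᵥ Ω *ᵥ x = 0) ∧ Ω * Ωi = 1 ∧ g.charpoly = χ

theorem rz_one (r : ℕ) : Rz (F := F) r 1 := by
  refine ⟨Empty, inferInstance, inferInstance, 1, 1, 1, 1, ?_, ?_, ?_, ?_, ?_, ?_, ?_⟩
  · simp
  · simp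
  · simp
  · simp
  · intro x; simp
  · simp
  · simp [Matrix.charpoly]

theorem rz_mul (r : ℕ) (χ₁ χ₂ : F[X]) (h₁ : χ₁ ≠ 0) (h₂ : χ₂ ≠ 0) (r₁ : Rz r χ₁) (r₂ : Rz r χ₂) :
    Rz r (χ₁ * χ₂) := by
  obtain ⟨ι₁, _, _, g₁, gi₁, Ω₁, Ωi₁, hc₁, hg₁, hk₁, hΩ₁, ha₁, hi₁, hχ₁⟩ := r₁
  obtain ⟨ι₂, _, _, g₂, gi₂, Ω₂, Ωi₂, hc₂, hg₂, hk₂, hΩ₂, ha₂, hi₂, hχ₂⟩ := r₂
  refine ⟨ι₁ ⊕ ι₂, inferInstance, inferInstance, Matrix.fromBlocks g₁ 0 0 g₂,
    Matrix.fromBlocks gi₁ 0 0 gi₂, Matrix.fromBlocks Ω₁ 0 0 Ω₂, Matrix.fromBlocks Ωi₁ 0 0 Ωi₂,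
    ?_, ?_, ?_, ?_, ?_, ?_, ?_⟩
  · rw [Fintype.card_sum, hc₁, hc₂, natDegree_mul h₁ h₂]
  · rw [Matrix.fromBlocks_multiply]; simp [hg₁, hg₂]
  · rw [Matrix.fromBlocks_diagonal_pow, hk₁, hk₂, Matrix.fromBlocks_one]
  · rw [Matrix.fromBlocks_transpose, Matrix.fromBlocks_multiply, Matrix.fromBlocks_multiply]
    simp [hΩ₁, hΩ₂]
  · intro x
    have e1 := ha₁ (x ∘ Sum.inl)
    have e2 := ha₂ (x ∘ Sum.inr)
    simp only [dotProduct, Matrix.mulVec, Fintype.sum_sum_type, Matrix.fromBlocks_apply₁₁,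
      Matrix.fromBlocks_apply₁₂, Matrix.fromBlocks_apply₂₁, Matrix.fromBlocks_apply₂₂,
      Matrix.zero_apply, zero_mul, Finset.sum_const_zero, add_zero, zero_add,
      Function.comp_apply] at e1 e2 ⊢
    rw [e1, e2, add_zero]
  · rw [Matrix.fromBlocks_multiply]; simp [hi₁, hi₂]
  · rw [Matrix.charpoly_fromBlocks_zero₁₂, hχ₁, hχ₂]

theorem rz_pow (r : ℕ) (χ : F[X]) (h : χ ≠ 0) (hz : Rz r χ) (k : ℕ) : Rz r (χ ^ k) := by
  induction k with
  | zero => rw [pow_zero]; exact rz_one r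
  | succ k ih => rw [pow_succ]; exact rz_mul r _ _ (pow_ne_zero _ h) h ih hz

theorem rz_sq (r : ℕ) : Rz (F := F) r ((X - 1) ^ 2) := by
  refine ⟨Fin 1 ⊕ Fin 1, inferInstance, inferInstance, 1, 1, Matrix.J (Fin 1) F,
    -Matrix.J (Fin 1) F, ?_, ?_, ?_, ?_, SympConj.J_alt 1 F, ?_, ?_⟩
  · have h1 : (X - 1 : F[X]).natDegree = 1 := by simpa using natDegree_X_sub_C (1 : F)
    have h2 : (X - 1 : F[X]) ≠ 0 := by
      intro h0; rw [h0] at h1; simp at h1
    rw [natDegree_pow' (by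
      have hm : (X - 1 : F[X]).Monic := by simpa using monic_X_sub_C (1 : F)
      rw [hm.leadingCoeff, one_pow]; exact one_ne_zero), h1]
    simp
  · simp
  · simp
  · simp
  · rw [Matrix.mul_neg, Matrix.J_squared, neg_neg]
  · rw [Matrix.charpoly_one]; simp

theorem to_sp [Fintype F] (n : ℕ) {ι : Type} [Fintype ι] [DecidableEq ι] (g gi Ω Ωi : Matrix ι ι F)
    (hc : Fintype.card ι = 2 * n) (hg : g * gi = 1) (hΩ : gᵀ * Ω * g = Ω)
    (ha : ∀ x : ι → F, x ⬝ᵥ Ω *ᵥ x = 0) (hi : Ω * Ωi = 1) :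
    ∃ (s : Matrix.symplecticGroup (Fin n) F), s.1.charpoly = g.charpoly ∧
      ∀ k : ℕ, g ^ k = 1 → s ^ k = 1 := by
  have hn₁ : ∀ x : ι → F, x ≠ 0 → ∃ y, x ⬝ᵥ Ω *ᵥ y ≠ 0 := by
    intro x hx
    obtain ⟨i, hi'⟩ := Function.ne_iff.mp hx
    refine ⟨Ωi *ᵥ Pi.single i 1, ?_⟩
    rw [Matrix.mulVec_mulVec, hi, Matrix.one_mulVec, dotProduct_single_one]
    exact hi'
  have hn₂ : ∀ x : Fin n ⊕ Fin n → F, x ≠ 0 → ∃ y, x ⬝ᵥ Matrix.J (Fin n) F *ᵥ y ≠ 0 := by
    intro x hx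
    obtain ⟨i, hi'⟩ := Function.ne_iff.mp hx
    refine ⟨(-Matrix.J (Fin n) F) *ᵥ Pi.single i 1, ?_⟩
    rw [Matrix.mulVec_mulVec, Matrix.mul_neg, Matrix.J_squared, neg_neg, Matrix.one_mulVec,
      dotProduct_single_one]
    exact hi'
  have hf₁ : Module.finrank F (ι → F) = 2 * n := by
    rw [Module.finrank_fintype_fun_eq_card, hc]
  have hf₂ : Module.finrank F (Fin n ⊕ Fin n → F) = 2 * n := by
    rw [Module.finrank_fintype_fun_eq_card, Fintype.card_sum, Fintype.card_fin, two_mul]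
  obtain ⟨c, hcform⟩ := alt_equiv (2 * n) (ι → F) (Fin n ⊕ Fin n → F)
    (Matrix.toLinearMap₂' F Ω) (Matrix.toLinearMap₂' F (Matrix.J (Fin n) F)) hf₁ hf₂
    (fun x => by rw [Matrix.toLinearMap₂'_apply']; exact ha x)
    (fun x => by rw [Matrix.toLinearMap₂'_apply']; exact SympConj.J_alt n F x)
    (fun x hx => by
      obtain ⟨y, hy⟩ := hn₁ x hx
      exact ⟨y, by rw [Matrix.toLinearMap₂'_apply']; exact hy⟩)
    (fun x hx => by
      obtain ⟨y, hy⟩ := hn₂ x hx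
      exact ⟨y, by rw [Matrix.toLinearMap₂'_apply']; exact hy⟩)
  have hcform' : ∀ x y : ι → F, (c x) ⬝ᵥ Matrix.J (Fin n) F *ᵥ (c y) = x ⬝ᵥ Ω *ᵥ y := by
    intro x y
    have := hcform x y
    rwa [Matrix.toLinearMap₂'_apply', Matrix.toLinearMap₂'_apply'] at this
  have hcinj : Function.Injective c := by
    rw [injective_iff_map_eq_zero]
    intro x hx
    by_contra hx0
    obtain ⟨y, hy⟩ := hn₁ x hx0
    apply hy
    rw [← hcform', hx, zero_dotProduct]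
  obtain ⟨ce, hce⟩ : ∃ ce : (ι → F) ≃ₗ[F] (Fin n ⊕ Fin n → F), ∀ x, ce x = c x :=
    ⟨LinearMap.linearEquivOfInjective c hcinj (hf₁.trans hf₂.symm),
      fun x => LinearMap.linearEquivOfInjective_apply hcinj (hf₁.trans hf₂.symm) x⟩
  obtain ⟨P, hP⟩ : ∃ P : Matrix (Fin n ⊕ Fin n) ι F, P = LinearMap.toMatrix' c := ⟨_, rfl⟩
  obtain ⟨Pi, hPi⟩ : ∃ Pi : Matrix ι (Fin n ⊕ Fin n) F,
      Pi = LinearMap.toMatrix' ce.symm.toLinearMap := ⟨_, rfl⟩
  have hPx : ∀ x, P *ᵥ x = c x := by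
    intro x
    rw [hP, ← Matrix.toLin'_apply, Matrix.toLin'_toMatrix']
  have hPPi : P * Pi = 1 := by
    rw [hP, hPi, ← LinearMap.toMatrix'_comp, ← LinearMap.toMatrix'_id]
    congr 1
    apply LinearMap.ext
    intro x
    simp only [LinearMap.comp_apply, LinearEquiv.coe_coe, LinearMap.id_apply]
    rw [← hce, LinearEquiv.apply_symm_apply]
  have hPiP : Pi * P = 1 := by
    rw [hP, hPi, ← LinearMap.toMatrix'_comp, ← LinearMap.toMatrix'_id]
    congr 1
    apply LinearMap.ext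
    intro x
    simp only [LinearMap.comp_apply, LinearEquiv.coe_coe, LinearMap.id_apply]
    rw [← hce, LinearEquiv.symm_apply_apply]
  have hPJ : Pᵀ * Matrix.J (Fin n) F * P = Ω := by
    apply mat_eq_of_form
    intro x y
    have h1 : (Pᵀ * Matrix.J (Fin n) F * P) *ᵥ y = Pᵀ *ᵥ (Matrix.J (Fin n) F *ᵥ (P *ᵥ y)) := by
      rw [Matrix.mulVec_mulVec, Matrix.mulVec_mulVec]
    rw [h1, Matrix.dotProduct_mulVec, Matrix.vecMul_transpose, hPx, hPx, hcform']
  have hsp : (P * g * Pi)ᵀ * Matrix.J (Fin n) F * (P * g * Pi) = Matrix.J (Fin n) F := by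
    calc (P * g * Pi)ᵀ * Matrix.J (Fin n) F * (P * g * Pi)
        = Piᵀ * (gᵀ * (Pᵀ * Matrix.J (Fin n) F * P) * g) * Pi := by
          rw [Matrix.transpose_mul, Matrix.transpose_mul]; simp only [Matrix.mul_assoc]
      _ = Piᵀ * (Pᵀ * Matrix.J (Fin n) F * P) * Pi := by rw [hPJ, hΩ]
      _ = (P * Pi)ᵀ * Matrix.J (Fin n) F * (P * Pi) := by
          rw [Matrix.transpose_mul]; simp only [Matrix.mul_assoc]
      _ = Matrix.J (Fin n) F := by
          rw [hPPi, Matrix.transpose_one, Matrix.one_mul, Matrix.mul_one]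
  have hpow : ∀ j : ℕ, (P * g * Pi) ^ j = P * g ^ j * Pi := by
    intro j
    induction j with
    | zero => rw [pow_zero, pow_zero, Matrix.mul_one, hPPi]
    | succ j ih =>
      rw [pow_succ, ih, pow_succ]
      calc P * g ^ j * Pi * (P * g * Pi) = P * g ^ j * (Pi * P) * g * Pi := by
            simp only [Matrix.mul_assoc]
        _ = P * (g ^ j * g) * Pi := by rw [hPiP, Matrix.mul_one]; simp only [Matrix.mul_assoc]
  obtain ⟨s, hs⟩ : ∃ s : Matrix.symplecticGroup (Fin n) F, s.1 = P * g * Pi :=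
    ⟨⟨P * g * Pi, SymplecticGroup.mem_iff'.mpr hsp⟩, rfl⟩
  refine ⟨s, ?_, ?_⟩
  · have h2 : g * Pi * P = g := by rw [Matrix.mul_assoc, hPiP, Matrix.mul_one]
    have h3 := Matrix.charpoly_mul_comm' P (g * Pi)
    rw [h2, hc, Fintype.card_sum, Fintype.card_fin, ← two_mul] at h3
    rw [hs, Matrix.mul_assoc]
    exact mul_left_cancel₀ (pow_ne_zero _ X_ne_zero) h3
  · intro k hk
    apply Subtype.ext
    rw [SubmonoidClass.coe_pow, hs, hpow, hk, Matrix.mul_one, hPPi]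
    rfl

theorem rz_to_sp [Fintype F] (r n : ℕ) (χ : F[X]) (hd : χ.natDegree = 2 * n) (hz : Rz r χ) :
    ∃ (s : Matrix.symplecticGroup (Fin n) F), s.1.charpoly = χ ∧ s ^ r = 1 := by
  obtain ⟨ι, _, _, g, gi, Ω, Ωi, hc, hg, hk, hΩ, ha, hi, hχ⟩ := hz
  obtain ⟨s, hs1, hs2⟩ := to_sp n g gi Ω Ωi (hc.trans hd) hg hΩ ha hi
  exact ⟨s, hs1.trans hχ, hs2 r hk⟩

theorem rz_even (r : ℕ) (χ : F[X]) (hz : Rz r χ) : Even χ.natDegree := by
  obtain ⟨ι, _, _, g, gi, Ω, Ωi, hc, hg, hk, hΩ, ha, hi, hχ⟩ := hz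
  obtain ⟨m, k, b, -, -, -, h4⟩ := Cfsg.Agent.S0752.result (Matrix.toBilin' Ω) (by
    intro x
    rw [Matrix.toBilin'_apply']
    exact ha x)
  have hk0 : k = 0 := by
    by_contra hk0
    have j : Fin k := ⟨0, Nat.pos_of_ne_zero hk0⟩
    apply b.ne_zero (Sum.inr j)
    funext l
    have h5 := h4 j (Ωi *ᵥ Pi.single l 1)
    rw [Matrix.toBilin'_apply', Matrix.mulVec_mulVec, hi, Matrix.one_mulVec,
      dotProduct_single_one] at h5
    exact h5
  subst hk0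
  have h6 := Module.finrank_eq_card_basis b
  rw [Module.finrank_fintype_fun_eq_card] at h6
  rw [← hc, h6]
  simp

theorem intertw {n : Type*} [Fintype n] [DecidableEq n] (A B N : Matrix n n F) (hNA : N * A = B * N)
    (f : F[X]) : N * aeval A f = aeval B f * N := by
  have hp : ∀ k : ℕ, N * A ^ k = B ^ k * N := by
    intro k
    induction k with
    | zero => simp
    | succ k ih => rw [pow_succ, ← Matrix.mul_assoc, ih, Matrix.mul_assoc, hNA, pow_succ,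
        Matrix.mul_assoc]
  induction f using Polynomial.induction_on' with
  | add p q hp' hq' => rw [map_add, map_add, Matrix.mul_add, Matrix.add_mul, hp', hq']
  | monomial k a =>
    simp only [aeval_monomial, Algebra.algebraMap_eq_smul_one, Matrix.smul_mul, Matrix.one_mul,
      Matrix.mul_smul, hp k]

theorem irr_inj {n : ℕ} (A B N : Matrix (Fin n) (Fin n) F) (hirr : Irreducible A.charpoly)
    (hN : N ≠ 0) (hNA : N * A = B * N) : ∃ Ni : Matrix (Fin n) (Fin n) F, N * Ni = 1 := by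
  have hinj : Function.Injective N.mulVec := by
    intro v₁ v₂ h12
    by_contra hne
    obtain ⟨v, hv⟩ : ∃ v, v = v₁ - v₂ := ⟨_, rfl⟩
    have hv0 : v ≠ 0 := by rw [hv]; exact sub_ne_zero.2 hne
    have hNv : N *ᵥ v = 0 := by
      rw [hv, Matrix.mulVec_sub]
      exact sub_eq_zero.2 h12
    apply hN
    let φ : F[X] →ₗ[F] (Fin n → F) :=
      (LinearMap.applyₗ v) ∘ₗ ((Matrix.toLin' : Matrix (Fin n) (Fin n) F ≃ₗ[F] _).toLinearMap) ∘ₗ
        (aeval A).toLinearMap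
    have hφ : ∀ f, φ f = (aeval A f) *ᵥ v := fun f => rfl
    have hker : ∀ f : F[X], f ≠ 0 → f.natDegree < n → φ f ≠ 0 := by
      intro f hf0 hfd hφf
      have hnd : ¬ A.charpoly ∣ f := by
        apply Polynomial.not_dvd_of_natDegree_lt hf0
        rw [Matrix.charpoly_natDegree_eq_dim, Fintype.card_fin]
        exact hfd
      obtain ⟨a, b, hab⟩ := (hirr.coprime_iff_not_dvd).2 hnd
      apply hv0
      have h1 := congrArg (fun g => (aeval A g) *ᵥ v) hab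
      simp only [map_add, map_mul, Matrix.aeval_self_charpoly, mul_zero, zero_add, map_one,
        Matrix.one_mulVec] at h1
      rw [← h1, ← Matrix.mulVec_mulVec, ← hφ f, hφf, Matrix.mulVec_zero]
    let χ : (Fin n → F) →ₗ[F] (Fin n → F) :=
      φ ∘ₗ (Polynomial.degreeLT F n).subtype ∘ₗ (Polynomial.degreeLTEquiv F n).symm.toLinearMap
    have hχinj : Function.Injective χ := by
      rw [injective_iff_map_eq_zero]
      intro c hc
      by_contra hc0
      have hf0 : ((Polynomial.degreeLTEquiv F n).symm c : F[X]) ≠ 0 := by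
        intro h0
        apply hc0
        have : (Polynomial.degreeLTEquiv F n).symm c = 0 := Subtype.ext h0
        exact (LinearEquiv.map_eq_zero_iff _).1 this
      have hdeg := ((Polynomial.degreeLTEquiv F n).symm c).2
      rw [Polynomial.mem_degreeLT] at hdeg
      exact hker _ hf0 ((Polynomial.natDegree_lt_iff_degree_lt hf0).2 hdeg) hc
    have hχsurj : Function.Surjective χ := LinearMap.injective_iff_surjective.1 hχinj
    apply mat_eq_of_mulVec
    intro w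
    obtain ⟨c, rfl⟩ := hχsurj w
    show N *ᵥ (φ _) = _
    rw [hφ, Matrix.mulVec_mulVec, intertw A B N hNA, ← Matrix.mulVec_mulVec, hNv,
      Matrix.mulVec_zero, Matrix.zero_mulVec]
  obtain ⟨u, hu⟩ := Matrix.mulVec_injective_iff_isUnit.1 hinj
  exact ⟨(u⁻¹ : (Matrix (Fin n) (Fin n) F)ˣ), by rw [← hu]; exact u.mul_inv⟩

theorem alt_sub {n : Type*} [Fintype n] (M : Matrix n n F) (x : n → F) :
    x ⬝ᵥ (M - Mᵀ) *ᵥ x = 0 := by
  rw [Matrix.sub_mulVec, dotProduct_sub, sub_eq_zero]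
  conv_rhs => rw [Matrix.dotProduct_mulVec, Matrix.vecMul_transpose, dotProduct_comm]

theorem inv_sub {n : Type*} [Fintype n] [DecidableEq n] (A M : Matrix n n F) (h : Aᵀ * M * A = M) :
    Aᵀ * (M - Mᵀ) * A = M - Mᵀ := by
  have h2 := congrArg Matrix.transpose h
  rw [Matrix.transpose_mul, Matrix.transpose_mul, Matrix.transpose_transpose,
    ← Matrix.mul_assoc] at h2
  rw [Matrix.mul_sub, Matrix.sub_mul, h, h2]

theorem rz_self {i : ℕ} (r : ℕ) (hr : Odd r) (hrF : (r : F) ≠ 0) (A Ai : Matrix (Fin i) (Fin i) F)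
    (hA : A ^ r = 1) (hAi : A * Ai = 1) (hirr : Irreducible A.charpoly) (hne : A ≠ 1)
    (hinv : Ai.charpoly = A.charpoly) : Rz r A.charpoly := by
  have hAi' : Ai * A = 1 := mul_eq_one_comm.mp hAi
  have hAir : Ai ^ r = 1 := by
    have hcomm : Commute A Ai := by rw [Commute, SemiconjBy, hAi, hAi']
    have := hcomm.mul_pow r
    rw [hAi, one_pow, hA, one_mul] at this
    exact this.symm
  have hAiT : (Aiᵀ) ^ r = 1 := by rw [← Matrix.transpose_pow, hAir, Matrix.transpose_one]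
  obtain ⟨g, gi, h1, h2, h3⟩ := ss_conj_mat A (Aiᵀ) r r hrF hrF hA hAiT
    (by rw [Matrix.charpoly_transpose, hinv])
  have hAT : Aᵀ * Aiᵀ = 1 := by rw [← Matrix.transpose_mul, hAi', Matrix.transpose_one]
  have hAT' : Aiᵀ * Aᵀ = 1 := by rw [← Matrix.transpose_mul, hAi, Matrix.transpose_one]
  have hg : Aᵀ * g * A = g := by
    rw [Matrix.mul_assoc, h3, ← Matrix.mul_assoc, hAT, Matrix.one_mul]
  have hgA : Aᵀ * (g * A) * A = g * A := by
    rw [← Matrix.mul_assoc, hg]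
  have key : ∀ N : Matrix (Fin i) (Fin i) F, N ≠ 0 → Aᵀ * N * A = N →
      (∀ x : Fin i → F, x ⬝ᵥ N *ᵥ x = 0) → Rz r A.charpoly := by
    intro N hN0 hN halt
    have hNA : N * A = Aiᵀ * N := by
      calc N * A = (Aiᵀ * Aᵀ) * N * A := by rw [hAT', Matrix.one_mul]
        _ = Aiᵀ * (Aᵀ * N * A) := by simp only [Matrix.mul_assoc]
        _ = Aiᵀ * N := by rw [hN]
    obtain ⟨Ni, hNi⟩ := irr_inj A (Aiᵀ) N hirr hN0 hNA
    exact ⟨Fin i, inferInstance, inferInstance, A, Ai, N, Ni,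
      by rw [Matrix.charpoly_natDegree_eq_dim], hAi, hA, hN, halt, hNi, rfl⟩
  by_cases hN1 : g - gᵀ = 0
  · by_cases hN2 : g * A - (g * A)ᵀ = 0
    · exfalso
      apply hne
      have e1 : gᵀ = g := (sub_eq_zero.1 hN1).symm
      have e2 : g * A = Aᵀ * g := by
        have := sub_eq_zero.1 hN2
        rw [Matrix.transpose_mul, e1] at this
        exact this
      have e3 : Aᵀ = Aiᵀ := by
        calc Aᵀ = Aᵀ * (g * gi) := by rw [h1, Matrix.mul_one]
          _ = (Aᵀ * g) * gi := by rw [Matrix.mul_assoc]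
          _ = (Aiᵀ * g) * gi := by rw [← e2, h3]
          _ = Aiᵀ := by rw [Matrix.mul_assoc, h1, Matrix.mul_one]
      have e4 : A = Ai := Matrix.transpose_injective e3
      have e5 : A * A = 1 := by
        rw [← e4] at hAi'
        exact hAi'
      obtain ⟨k, hk⟩ := hr
      have e6 : A ^ r = A := by
        rw [hk, pow_succ, pow_mul, pow_two, e5, one_pow, Matrix.one_mul]
      rw [← e6, hA]
    · exact key _ hN2 (inv_sub A _ hgA) (alt_sub _)
  · exact key _ hN1 (inv_sub A _ hg) (alt_sub _)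

theorem rz_hyp {i : ℕ} (r : ℕ) (A Ai : Matrix (Fin i) (Fin i) F) (hA : A ^ r = 1)
    (hAi : A * Ai = 1) : Rz r (A.charpoly * Ai.charpoly) := by
  have hAi' : Ai * A = 1 := mul_eq_one_comm.mp hAi
  have hAir : Ai ^ r = 1 := by
    have hcomm : Commute A Ai := by rw [Commute, SemiconjBy, hAi, hAi']
    have := hcomm.mul_pow r
    rw [hAi, one_pow, hA, one_mul] at this
    exact this.symm
  have hAT : Aᵀ * Aiᵀ = 1 := by rw [← Matrix.transpose_mul, hAi', Matrix.transpose_one]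
  have hAT' : Aiᵀ * Aᵀ = 1 := by rw [← Matrix.transpose_mul, hAi, Matrix.transpose_one]
  refine ⟨Fin i ⊕ Fin i, inferInstance, inferInstance, Matrix.fromBlocks A 0 0 Aiᵀ,
    Matrix.fromBlocks Ai 0 0 Aᵀ, Matrix.J (Fin i) F, -Matrix.J (Fin i) F, ?_, ?_, ?_, ?_,
    SympConj.J_alt i F, ?_, ?_⟩
  · rw [natDegree_mul (Matrix.charpoly_monic A).ne_zero (Matrix.charpoly_monic Ai).ne_zero,
      Matrix.charpoly_natDegree_eq_dim, Matrix.charpoly_natDegree_eq_dim, Fintype.card_sum]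
  · rw [Matrix.fromBlocks_multiply]; simp [hAi, hAT']
  · rw [Matrix.fromBlocks_diagonal_pow, hA, ← Matrix.transpose_pow, hAir, Matrix.transpose_one,
      Matrix.fromBlocks_one]
  · rw [Matrix.J, Matrix.fromBlocks_transpose, Matrix.fromBlocks_multiply,
      Matrix.fromBlocks_multiply]
    simp [hAi', hAT]
  · rw [Matrix.mul_neg, Matrix.J_squared, neg_neg]
  · rw [Matrix.charpoly_fromBlocks_zero₁₂, Matrix.charpoly_transpose]

end Cfsg.Agent.Lib.helper18.SpRz
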