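import Mathlib
import Cfsg.Agent.Lib.helper18.SpRz

set_option autoImplicit false

namespace Cfsg.Agent.Lib.helper18.SpRz

open Polynomial UniqueFactorizationMonoid
open scoped Matrix

universe u
variable {F : Type u} [Field F] [DecidableEq F]

/-- the monic reciprocal polynomial -/
noncomputable def st (P : F[X]) : F[X] := normalize P.mirror

theorem unit_of_mirror (a : F[X]) (h : IsUnit a.mirror) : IsUnit a := by
  rw [Polynomial.isUnit_iff_degree_eq_zero] at h ⊢
  have h0 : a.mirror ≠ 0 := by
    intro h0; rw [h0] at h; simp at h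
  have ha0 : a ≠ 0 := fun h1 => h0 (mirror_eq_zero.2 h1)
  rw [degree_eq_natDegree h0, mirror_natDegree] at h
  rw [degree_eq_natDegree ha0]
  exact h

theorem mirror_irr (P : F[X]) (hP : Irreducible P) : Irreducible P.mirror := by
  rw [irreducible_iff]
  refine ⟨?_, ?_⟩
  · intro hu
    have h1 := natDegree_eq_zero_of_isUnit hu
    rw [mirror_natDegree] at h1
    exact hP.natDegree_pos.ne' h1
  · intro a b hab
    have h2 : P = a.mirror * b.mirror := by
      rw [← mirror_mul_of_domain, ← hab, mirror_mirror]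
    rcases hP.isUnit_or_isUnit h2 with h | h
    · left; exact unit_of_mirror a h
    · right; exact unit_of_mirror b h

theorem st_monic (P : F[X]) (hP : P ≠ 0) : (st P).Monic := by
  unfold st
  exact Polynomial.monic_normalize (fun h => hP (mirror_eq_zero.1 h))

theorem st_irr (P : F[X]) (hP : Irreducible P) : Irreducible (st P) := by
  unfold st
  exact (Associated.irreducible_iff (normalize_associated _)).2 (mirror_irr P hP)

theorem st_natDegree (P : F[X]) : (st P).natDegree = P.natDegree := by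
  unfold st
  rw [natDegree, natDegree, Polynomial.degree_normalize, ← natDegree, ← natDegree, mirror_natDegree]

theorem st_eq (P : F[X]) (hP : P ≠ 0) : st P = P.mirror * C (P.mirror.leadingCoeff)⁻¹ := by
  have h0 : P.mirror ≠ 0 := fun h => hP (mirror_eq_zero.1 h)
  unfold st
  rw [normalize_apply, Polynomial.coe_normUnit_of_ne_zero h0]

theorem st_st (P : F[X]) (hP : P.Monic) : st (st P) = P := by
  have h0 : P.mirror ≠ 0 := fun h => hP.ne_zero (mirror_eq_zero.1 h)
  have hc : (P.mirror.leadingCoeff)⁻¹ ≠ 0 := inv_ne_zero (leadingCoeff_ne_zero.2 h0)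
  have hm := st_monic P hP.ne_zero
  rw [st_eq _ hm.ne_zero, st_eq P hP.ne_zero, mirror_mul_of_domain, mirror_mirror, mirror_C,
    leadingCoeff_mul, hP.leadingCoeff, one_mul, leadingCoeff_C, mul_assoc, ← C_mul,
    mul_inv_cancel₀ hc, C_1, mul_one]

theorem st_mul (a b : F[X]) (ha : a ≠ 0) (hb : b ≠ 0) : st (a * b) = st a * st b := by
  rw [st_eq _ (mul_ne_zero ha hb), st_eq a ha, st_eq b hb, mirror_mul_of_domain, leadingCoeff_mul,
    mul_inv, C_mul]
  ring

theorem st_one : st (1 : F[X]) = 1 := by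
  have h1 : (1 : F[X]).mirror = 1 := by
    have : (1 : F[X]) = C 1 := by simp
    rw [this, mirror_C]
  rw [st_eq _ one_ne_zero, h1, leadingCoeff_one, inv_one, C_1, mul_one]

theorem charpoly_inv {n : Type*} [Fintype n] [DecidableEq n] (A B : Matrix n n F)
    (hAB : A * B = 1) : B.charpoly = st A.charpoly := by
  have hBA : B * A = 1 := mul_eq_one_comm.mp hAB
  have hdet : A.det * B.det = 1 := by rw [← Matrix.det_mul, hAB, Matrix.det_one]
  have hd0 : A.det ≠ 0 := by
    intro h0; rw [h0, zero_mul] at hdet; exact zero_ne_one hdet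
  have h3 : Matrix.charmatrix B * A.map C = -(1 - (X : F[X]) • A.map C) := by
    unfold Matrix.charmatrix
    have h4 : (C : F →+* F[X]).mapMatrix B * A.map C = 1 := by
      have := congrArg (C : F →+* F[X]).mapMatrix hBA
      rw [map_mul, map_one] at this
      exact this
    rw [Matrix.sub_mul, h4, neg_sub]
    congr 1
    ext i j
    simp [Matrix.mul_apply, Matrix.scalar_apply, Matrix.diagonal_apply]
  have h5 := congrArg Matrix.det h3
  have h6 : (A.map C).det = C A.det := by
    have : A.map C = (C : F →+* F[X]).mapMatrix A := rfl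
    rw [this, ← RingHom.map_det]
  rw [Matrix.det_mul, h6, Matrix.det_neg] at h5
  have h7 : (1 - (X : F[X]) • A.map C).det = A.charpoly.reverse := by
    rw [Matrix.reverse_charpoly]; rfl
  have h8 : A.charpoly.natTrailingDegree = 0 := by
    apply Polynomial.natTrailingDegree_eq_zero_of_constantCoeff_ne_zero
    rw [Polynomial.constantCoeff_apply]
    intro h0
    have := Matrix.det_eq_sign_charpoly_coeff A
    rw [h0, mul_zero] at this
    exact hd0 this
  have h9 : A.charpoly.mirror = A.charpoly.reverse := by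
    unfold Polynomial.mirror
    rw [h8, pow_zero, mul_one]
  rw [h7, ← h9] at h5
  have h10 : B.charpoly = ((-1) ^ Fintype.card n * C (A.det)⁻¹) * A.charpoly.mirror := by
    have e1 : Matrix.det (Matrix.charmatrix B) = B.charpoly := rfl
    rw [e1] at h5
    calc B.charpoly = B.charpoly * C A.det * C (A.det)⁻¹ := by
          rw [mul_assoc, ← C_mul, mul_inv_cancel₀ hd0, C_1, mul_one]
      _ = _ := by rw [h5]; ring
  have hm0 : A.charpoly.mirror ≠ 0 := fun h => (Matrix.charpoly_monic A).ne_zero (mirror_eq_zero.1 h)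
  have h11 : B.charpoly = A.charpoly.mirror * C ((-1) ^ Fintype.card n * (A.det)⁻¹) := by
    rw [h10, C_mul, C_pow, C_neg, C_1]; ring
  have h12 := (Matrix.charpoly_monic B).leadingCoeff
  rw [h11, leadingCoeff_mul, leadingCoeff_C] at h12
  have h13 : (-1) ^ Fintype.card n * (A.det)⁻¹ = (A.charpoly.mirror.leadingCoeff)⁻¹ :=
    eq_inv_of_mul_eq_one_right h12
  rw [h11, h13, st_eq _ (Matrix.charpoly_monic A).ne_zero]

theorem st_prod (M : Multiset F[X]) (hM : ∀ h ∈ M, h ≠ 0) : st M.prod = (M.map st).prod := by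
  induction M using Multiset.induction_on with
  | empty => rw [Multiset.prod_zero, Multiset.map_zero, Multiset.prod_zero, st_one]
  | cons a s ih =>
    have hs : ∀ h ∈ s, h ≠ 0 := fun h hh => hM h (Multiset.mem_cons_of_mem hh)
    rw [Multiset.prod_cons, st_mul _ _ (hM a (Multiset.mem_cons_self a s))
      (Multiset.prod_ne_zero (fun h0 => hs 0 h0 rfl)), ih hs, Multiset.map_cons, Multiset.prod_cons]

theorem nf_st {n : Type*} [Fintype n] [DecidableEq n] (A B : Matrix n n F) (hAB : A * B = 1)
    (hc : B.charpoly = A.charpoly) :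
    (normalizedFactors A.charpoly).map st = normalizedFactors A.charpoly := by
  have h1 : st A.charpoly = A.charpoly := by rw [← charpoly_inv A B hAB, hc]
  have hNFmon : ∀ h ∈ normalizedFactors A.charpoly, h.Monic := by
    intro h hh
    rw [← normalize_normalized_factor h hh]
    exact monic_normalize (irreducible_of_normalized_factor h hh).ne_zero
  have hprod : (normalizedFactors A.charpoly).prod = A.charpoly := by
    apply eq_of_monic_of_associated _ (Matrix.charpoly_monic A)
      (prod_normalizedFactors (Matrix.charpoly_monic A).ne_zero)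
    have := monic_multiset_prod_of_monic (normalizedFactors A.charpoly) id
      (fun h hh => hNFmon h hh)
    simpa using this
  have h2 : ((normalizedFactors A.charpoly).map st).prod = A.charpoly := by
    rw [← st_prod _ (fun h hh => (irreducible_of_normalized_factor h hh).ne_zero), hprod, h1]
  have h3 := normalizedFactors_prod_eq ((normalizedFactors A.charpoly).map st) (by
    intro a ha
    rw [Multiset.mem_map] at ha
    obtain ⟨b, hb, rfl⟩ := ha
    exact st_irr b (irreducible_of_normalized_factor b hb))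
  rw [h2, Multiset.map_map] at h3
  conv_rhs => rw [h3]
  apply Multiset.map_congr rfl
  intro b hb
  have := (st_monic b (irreducible_of_normalized_factor b hb).ne_zero).normalize_eq_self
  exact this.symm

theorem st_X_sub_one : st (X - 1 : F[X]) = X - 1 := by
  have h := charpoly_inv (1 : Matrix (Fin 1) (Fin 1) F) 1 (one_mul 1)
  rw [Matrix.charpoly_one, Fintype.card_fin, pow_one] at h
  exact h.symm

open Classical in
theorem rz_multiset (r : ℕ) (S : Finset F[X]) (σ : F[X] → F[X]) (i : ℕ)
    (hmon : ∀ P ∈ S, P.Monic ∧ P.natDegree = i)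
    (hσS : ∀ P ∈ S, σ P ∈ S) (hinv : ∀ P ∈ S, σ (σ P) = P)
    (hat1 : ∀ P ∈ S, σ P = P → Rz r P ∧ Even i)
    (hat2 : ∀ P ∈ S, σ P ≠ P → Rz r (P * σ P)) :
    ∀ (n : ℕ) (M : Multiset F[X]), Multiset.card M = n → (∀ h ∈ M, h = X - 1 ∨ h ∈ S) →
      M.map σ = M → Even (M.map natDegree).sum → Rz r M.prod := by
  have hx0m : (X - 1 : F[X]).Monic := by simpa using monic_X_sub_C (1 : F)
  have hx0d : (X - 1 : F[X]).natDegree = 1 := by simpa using natDegree_X_sub_C (1 : F)
  have hmonM : ∀ M : Multiset F[X], (∀ h ∈ M, h = X - 1 ∨ h ∈ S) → M.prod.Monic := by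
    intro M hM
    have := monic_multiset_prod_of_monic M id (fun h hh => by
      rcases hM h hh with rfl | hS
      · exact hx0m
      · exact (hmon h hS).1)
    simpa using this
  intro n
  induction n using Nat.strong_induction_on with
  | _ n ih =>
  intro M hcard hM hσ hev
  by_cases hex : ∃ h ∈ M, h ∈ S
  · obtain ⟨h, hh, hS⟩ := hex
    by_cases hfix : σ h = h
    · obtain ⟨hz, hi2⟩ := hat1 h hS hfix
      have hM' : ∀ x ∈ M.erase h, x = X - 1 ∨ x ∈ S :=
        fun x hx => hM x (Multiset.mem_of_mem_erase hx)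
      have e1 : M = h ::ₘ M.erase h := (Multiset.cons_erase hh).symm
      have e2 : (M.erase h).map σ = M.erase h := by
        have := hσ
        rw [e1, Multiset.map_cons, hfix] at this
        exact (Multiset.cons_inj_right h).1 this
      have e4 : Even ((M.erase h).map natDegree).sum := by
        rw [e1, Multiset.map_cons, Multiset.sum_cons, (hmon h hS).2] at hev
        exact (Nat.even_add.1 hev).1 hi2
      have e5 := ih (Multiset.card (M.erase h)) (by
        rw [← hcard, Multiset.card_erase_of_mem hh, Nat.pred_eq_sub_one]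
        have : 0 < Multiset.card M := Multiset.card_pos_iff_exists_mem.2 ⟨h, hh⟩
        omega) (M.erase h) rfl hM' e2 e4
      rw [e1, Multiset.prod_cons]
      exact rz_mul r _ _ (hmon h hS).1.ne_zero (hmonM _ hM').ne_zero hz e5
    · have hz := hat2 h hS hfix
      have hσh : σ h ∈ M := by
        rw [← hσ]
        exact Multiset.mem_map_of_mem σ hh
      have hσh' : σ h ∈ M.erase h := (Multiset.mem_erase_of_ne hfix).2 hσh
      have e1 : M = h ::ₘ σ h ::ₘ (M.erase h).erase (σ h) := by
        rw [Multiset.cons_erase hσh', Multiset.cons_erase hh]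
      have hM' : ∀ x ∈ (M.erase h).erase (σ h), x = X - 1 ∨ x ∈ S :=
        fun x hx => hM x (Multiset.mem_of_mem_erase (Multiset.mem_of_mem_erase hx))
      obtain ⟨M'', hM''⟩ : ∃ M'', M'' = (M.erase h).erase (σ h) := ⟨_, rfl⟩
      rw [← hM''] at e1 hM'
      have e2 : M''.map σ = M'' := by
        have := hσ
        rw [e1, Multiset.map_cons, Multiset.map_cons, hinv h hS, Multiset.cons_swap] at this
        exact (Multiset.cons_inj_right _).1 ((Multiset.cons_inj_right _).1 this)
      have e4 : Even (M''.map natDegree).sum := by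
        rw [e1, Multiset.map_cons, Multiset.sum_cons, Multiset.map_cons, Multiset.sum_cons,
          (hmon h hS).2, (hmon _ (hσS h hS)).2, ← add_assoc] at hev
        exact (Nat.even_add.1 hev).1 (Even.add_self i)
      have e5 := ih (Multiset.card M'') (by
        have := congrArg Multiset.card e1
        rw [Multiset.card_cons, Multiset.card_cons] at this
        omega) M'' rfl hM' e2 e4
      rw [e1, Multiset.prod_cons, Multiset.prod_cons, ← mul_assoc]
      exact rz_mul r _ _ (mul_ne_zero (hmon h hS).1.ne_zero (hmon _ (hσS h hS)).1.ne_zero)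
        (hmonM _ hM').ne_zero hz e5
  · have hall : ∀ h ∈ M, h = X - 1 := by
      intro h hh
      rcases hM h hh with h1 | h1
      · exact h1
      · exact absurd ⟨h, hh, h1⟩ hex
    have e1 : M = Multiset.replicate n (X - 1) := by
      rw [← hcard]; exact Multiset.eq_replicate_card.2 hall
    rw [e1, Multiset.map_replicate, Multiset.sum_replicate, hx0d, smul_eq_mul, mul_one] at hev
    obtain ⟨k, hk⟩ := hev
    rw [e1, Multiset.prod_replicate, hk, ← two_mul, pow_mul]
    exact rz_pow r _ (pow_ne_zero _ hx0m.ne_zero) (rz_sq r) k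

theorem exists_transversal {α : Type*} [DecidableEq α] (S : Finset α) (σ : α → α)
    (hσ : Function.Involutive σ) (hσS : ∀ P ∈ S, σ P ∈ S) (hfp : ∀ P ∈ S, σ P ≠ P) :
    ∃ T : Finset α, T ⊆ S ∧ (∀ P ∈ S, P ∈ T ↔ σ P ∉ T) ∧ 2 * T.card = S.card := by
  classical
  obtain ⟨lo, -⟩ := exists_wellFoundedLT (α := α)
  obtain ⟨lt, htri, hasym⟩ : ∃ lt : α → α → Prop, (∀ a b, a ≠ b → lt a b ∨ lt b a) ∧
      (∀ a b, lt a b → ¬ lt b a) :=
    ⟨lo.lt, fun a b h => @lt_or_gt_of_ne α lo a b h, fun a b h => @lt_asymm α _ a b h⟩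
  have hT : ∀ P ∈ S, P ∈ S.filter (fun P => lt P (σ P)) ↔ σ P ∉ S.filter (fun P => lt P (σ P)) := by
    intro P hP
    rw [Finset.mem_filter, Finset.mem_filter, hσ P]
    constructor
    · rintro ⟨-, h1⟩ ⟨-, h2⟩
      exact hasym _ _ h1 h2
    · intro h
      refine ⟨hP, ?_⟩
      rcases htri P (σ P) (fun h' => hfp P hP h'.symm) with h1 | h1
      · exact h1
      · exact absurd ⟨hσS P hP, h1⟩ h
  refine ⟨S.filter (fun P => lt P (σ P)), Finset.filter_subset _ _, hT, ?_⟩
  have h1 : S \ S.filter (fun P => lt P (σ P)) = (S.filter (fun P => lt P (σ P))).image σ := by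
    ext P
    rw [Finset.mem_sdiff, Finset.mem_image]
    constructor
    · rintro ⟨hP, hPT⟩
      refine ⟨σ P, ?_, hσ P⟩
      by_contra h
      exact hPT ((hT P hP).2 h)
    · rintro ⟨Q, hQ, rfl⟩
      have hQS : Q ∈ S := (Finset.mem_filter.1 hQ).1
      exact ⟨hσS Q hQS, (hT Q hQS).1 hQ⟩
  have h2 := Finset.card_sdiff_add_card_eq_card (Finset.filter_subset (fun P => lt P (σ P)) S)
  rw [h1, Finset.card_image_of_injective _ hσ.injective] at h2
  omega

theorem card_inv {α : Type*} [DecidableEq α] (x₀ : α) (S T : Finset α) (σ : α → α)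
    (hσ : Function.Involutive σ) (hx : x₀ ∉ S) (hσx : σ x₀ = x₀)
    (hTS : T ⊆ S) (hT1 : ∀ P ∈ S, P ∈ T ↔ σ P ∉ T) (hσS : ∀ P ∈ S, σ P ∈ S)
    (m i : ℕ) (hi : 0 < i) :
    Nat.card {M : Multiset α // (∀ h ∈ M, h = x₀ ∨ h ∈ S) ∧ M.map σ = M ∧
      (Multiset.card (M.filter (fun h => h ≠ x₀)) ≠ 0 ∧
        Multiset.card (M.filter (fun h => h ≠ x₀)) ≤ 2 * m / i) ∧
      M.count x₀ = 2 * m - i * Multiset.card (M.filter (fun h => h ≠ x₀))} =
    Nat.card {N : Multiset α // (∀ h ∈ N, h ∈ T) ∧
      (Multiset.card N ≠ 0 ∧ Multiset.card N ≤ m / i)} := by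
  have hxT : x₀ ∉ T := fun h => hx (hTS h)
  have hc2 : ∀ M : Multiset α, (∀ h ∈ M, h = x₀ ∨ h ∈ S) → M.map σ = M →
      Multiset.card (M.filter (fun h => h ≠ x₀)) = 2 * Multiset.card (M.filter (fun h => h ∈ T)) := by
    intro M hM hMσ
    have e1 : M.filter (fun h => h ≠ x₀) =
        (M.filter (fun h => h ≠ x₀)).filter (fun h => h ∈ T) +
        (M.filter (fun h => h ≠ x₀)).filter (fun h => ¬ h ∈ T) :=
      (Multiset.filter_add_not _ _).symm
    have e2 : (M.filter (fun h => h ≠ x₀)).filter (fun h => h ∈ T) = M.filter (fun h => h ∈ T) := by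
      rw [Multiset.filter_filter]
      apply Multiset.filter_congr
      intro h _
      constructor
      · exact fun h1 => h1.1
      · exact fun h1 => ⟨h1, fun h2 => hxT (h2 ▸ h1)⟩
    have e3 : (M.filter (fun h => h ≠ x₀)).filter (fun h => ¬ h ∈ T) =
        M.filter ((fun h => h ∈ T) ∘ σ) := by
      rw [Multiset.filter_filter]
      apply Multiset.filter_congr
      intro h hh
      show (h ∉ T ∧ h ≠ x₀) ↔ σ h ∈ T
      constructor
      · rintro ⟨h1, h2⟩
        have hS : h ∈ S := (hM h hh).resolve_left h2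
        by_contra h3
        exact h1 ((hT1 h hS).2 h3)
      · intro h1
        have hS : h ∈ S := by
          have := hσS (σ h) (hTS h1)
          rwa [hσ h] at this
        exact ⟨fun h2 => (hT1 h hS).1 h2 h1, fun h2 => hx (h2 ▸ hS)⟩
    have e4 : Multiset.card (M.filter ((fun h => h ∈ T) ∘ σ)) =
        Multiset.card (M.filter (fun h => h ∈ T)) := by
      conv_rhs => rw [← hMσ, Multiset.filter_map, Multiset.card_map]
    rw [e1, Multiset.card_add, e2, e3, e4, two_mul]
  apply Nat.card_congr
  refine Equiv.ofBijective (fun M => ⟨M.1.filter (fun h => h ∈ T), ?_, ?_, ?_⟩) ⟨?_, ?_⟩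
  · intro h hh
    exact (Multiset.mem_filter.1 hh).2
  · have := hc2 M.1 M.2.1 M.2.2.1
    have h1 := M.2.2.2.1.1
    omega
  · have := hc2 M.1 M.2.1 M.2.2.1
    have h1 := M.2.2.2.1.2
    rw [Nat.le_div_iff_mul_le hi] at h1 ⊢
    rw [this] at h1
    nlinarith
  · rintro ⟨M₁, h1, h2, h3, h4⟩ ⟨M₂, h1', h2', h3', h4'⟩ heq
    have heq' : M₁.filter (fun h => h ∈ T) = M₂.filter (fun h => h ∈ T) := congrArg Subtype.val heq
    apply Subtype.ext
    show M₁ = M₂
    have hT' : ∀ a ∈ T, M₁.count a = M₂.count a := by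
      intro a ha
      rw [← Multiset.count_filter_of_pos (p := fun h => h ∈ T) ha, heq',
        Multiset.count_filter_of_pos (p := fun h => h ∈ T) ha]
    have hcnt : ∀ (M : Multiset α), M.map σ = M → ∀ a, M.count a = M.count (σ a) := by
      intro M hMσ a
      conv_lhs => rw [← hMσ, ← hσ a]
      exact Multiset.count_map_eq_count' σ M hσ.injective (σ a)
    ext a
    by_cases ha0 : a = x₀
    · rw [ha0, h4, h4', hc2 M₁ h1 h2, hc2 M₂ h1' h2', heq']
    by_cases haT : a ∈ T
    · exact hT' a haT
    by_cases haσ : σ a ∈ T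
    · rw [hcnt M₁ h2 a, hcnt M₂ h2' a]
      exact hT' _ haσ
    · have hnm : ∀ M : Multiset α, (∀ h ∈ M, h = x₀ ∨ h ∈ S) → a ∉ M := by
        intro M hM ha
        have hS : a ∈ S := (hM a ha).resolve_left ha0
        exact haT ((hT1 a hS).2 haσ)
      rw [Multiset.count_eq_zero_of_notMem (hnm M₁ h1), Multiset.count_eq_zero_of_notMem (hnm M₂ h1')]
  · rintro ⟨N, hN1, hN2, hN3⟩
    have hN3' : i * Multiset.card N ≤ m := by
      rw [mul_comm]; exact (Nat.le_div_iff_mul_le hi).1 hN3
    have hNS : ∀ h ∈ N, h ≠ x₀ := fun h hh h0 => hxT (h0 ▸ hN1 h hh)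
    have hσNS : ∀ h ∈ N.map σ, h ∈ S ∧ h ∉ T := by
      intro h hh
      rw [Multiset.mem_map] at hh
      obtain ⟨b, hb, rfl⟩ := hh
      exact ⟨hσS b (hTS (hN1 b hb)), (hT1 b (hTS (hN1 b hb))).1 (hN1 b hb)⟩
    have hσN0 : ∀ h ∈ N.map σ, h ≠ x₀ := fun h hh h0 => hx (h0 ▸ (hσNS h hh).1)
    obtain ⟨k, hk⟩ : ∃ k, k = 2 * m - 2 * (i * Multiset.card N) := ⟨_, rfl⟩
    have hf : (N + N.map σ + Multiset.replicate k x₀).filter (fun h => h ≠ x₀) = N + N.map σ := by
      rw [Multiset.filter_add, Multiset.filter_add, Multiset.filter_eq_self.2 hNS,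
        Multiset.filter_eq_self.2 hσN0, Multiset.filter_eq_nil.2, add_zero]
      intro h hh
      rw [Multiset.eq_of_mem_replicate hh]
      exact not_not.2 rfl
    have hfc : Multiset.card ((N + N.map σ + Multiset.replicate k x₀).filter (fun h => h ≠ x₀)) =
        2 * Multiset.card N := by
      rw [hf, Multiset.card_add, Multiset.card_map, two_mul]
    refine ⟨⟨N + N.map σ + Multiset.replicate k x₀, ?_, ?_, ⟨?_, ?_⟩, ?_⟩, ?_⟩
    · intro h hh
      rw [Multiset.mem_add, Multiset.mem_add] at hh
      rcases hh with (hh | hh) | hh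
      · exact Or.inr (hTS (hN1 h hh))
      · exact Or.inr (hσNS h hh).1
      · exact Or.inl (Multiset.eq_of_mem_replicate hh)
    · rw [Multiset.map_add, Multiset.map_add, Multiset.map_map, hσ.comp_self, Multiset.map_id,
        Multiset.map_replicate, hσx, add_comm (N.map σ) N]
    · rw [hfc]; omega
    · rw [hfc, Nat.le_div_iff_mul_le hi]; nlinarith
    · rw [hfc, Multiset.count_add, Multiset.count_add, Multiset.count_replicate_self,
        Multiset.count_eq_zero_of_notMem (fun h => hNS _ h rfl),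
        Multiset.count_eq_zero_of_notMem (fun h => hσN0 _ h rfl), hk]
      ring_nf
    · apply Subtype.ext
      show (N + N.map σ + Multiset.replicate k x₀).filter (fun h => h ∈ T) = N
      rw [Multiset.filter_add, Multiset.filter_add, Multiset.filter_eq_self.2 hN1,
        Multiset.filter_eq_nil.2 (fun h hh => (hσNS h hh).2), Multiset.filter_eq_nil.2, add_zero,
        add_zero]
      intro h hh
      rw [Multiset.eq_of_mem_replicate hh]
      exact hxT

end Cfsg.Agent.Lib.helper18.SpRz
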