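import Mathlib
import Cfsg.Agent.Lib.helper10.HermNorm

set_option autoImplicit false

/-!
Tools for conjugacy of semisimple elements in isometry groups: adjoints with respect to a Gram
matrix, the bicommutant of a commuting pair as a finite commutative ring with involution, the norm
equation modulo an idempotent, averaging projections.
-/

namespace Cfsg.Agent.Lib.helper18.SemiConj

open Matrix

universe u

theorem norm_mod_idem {R : Type u} [CommRing R] [Finite R] (τ : R →+* R) (hτ : ∀ x, τ (τ x) = x)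
    (e : R) (he : e * e = e) (hτe : τ e = e) (ω ρ : R) (hω : (ω - τ ω) * ρ = 1 - e)
    (y yi : R) (hy : y * yi = 1) (hτy : τ y = y) :
    ∃ u : R, (1 - e) * (u * τ u) = (1 - e) * y := by
  let I : Ideal R := Ideal.span {e}
  have hI : I ≤ I.comap τ := by
    rw [Ideal.span_le]
    intro x hx
    rw [Set.mem_singleton_iff] at hx
    subst hx
    show τ x ∈ I
    rw [hτe]; exact Ideal.subset_span rfl
  let τ' : R ⧸ I →+* R ⧸ I := Ideal.quotientMap I τ hI
  have hτ'mk : ∀ x : R, τ' (Ideal.Quotient.mk I x) = Ideal.Quotient.mk I (τ x) :=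
    fun x => Ideal.quotientMap_mk
  have hτ' : ∀ x, τ' (τ' x) = x := by
    intro x
    obtain ⟨x, rfl⟩ := Ideal.Quotient.mk_surjective x
    rw [hτ'mk, hτ'mk, hτ]
  have : Finite (R ⧸ I) := Finite.of_surjective _ Ideal.Quotient.mk_surjective
  have he0 : Ideal.Quotient.mk I e = 0 :=
    Ideal.Quotient.eq_zero_iff_mem.mpr (Ideal.subset_span rfl)
  have hω' : IsUnit (Ideal.Quotient.mk I ω - τ' (Ideal.Quotient.mk I ω)) := by
    refine IsUnit.of_mul_eq_one (Ideal.Quotient.mk I ρ) ?_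
    rw [hτ'mk, ← map_sub, ← map_mul, hω, map_sub, map_one, he0, sub_zero]
  have hy' : IsUnit (Ideal.Quotient.mk I y) :=
    IsUnit.of_mul_eq_one (Ideal.Quotient.mk I yi) (by rw [← map_mul, hy, map_one])
  obtain ⟨u', hu'⟩ := Cfsg.Agent.Lib.helper10.HermNorm.norm_surj τ' hτ' _ hω' _ hy'
    (by rw [hτ'mk, hτy])
  obtain ⟨u, rfl⟩ := Ideal.Quotient.mk_surjective u'
  refine ⟨u, ?_⟩
  rw [hτ'mk, ← map_mul, Ideal.Quotient.eq, Ideal.mem_span_singleton'] at hu'
  obtain ⟨a, ha⟩ := hu'
  linear_combination (-(1 - e)) * ha - a * he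

variable {F : Type u} [Field F] {ι : Type*} [Fintype ι] [DecidableEq ι]

/-- adjoint with respect to the Gram matrix `G` (with inverse `Gi`) -/
def dg (G Gi : Matrix ι ι F) (M : Matrix ι ι F) : Matrix ι ι F := Gi * Mᵀ * G

theorem dg_mul (G Gi : Matrix ι ι F) (hG : G * Gi = 1) (M N : Matrix ι ι F) :
    dg G Gi (M * N) = dg G Gi N * dg G Gi M := by
  unfold dg
  rw [Matrix.transpose_mul]
  calc Gi * (Nᵀ * Mᵀ) * G = Gi * Nᵀ * 1 * Mᵀ * G := by simp only [mul_assoc, one_mul]
    _ = Gi * Nᵀ * G * (Gi * Mᵀ * G) := by rw [← hG]; simp only [mul_assoc]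

theorem dg_one (G Gi : Matrix ι ι F) (hG : G * Gi = 1) : dg G Gi (1 : Matrix ι ι F) = 1 := by
  unfold dg
  rw [Matrix.transpose_one, mul_one]
  exact mul_eq_one_comm.mp hG

theorem dg_add (G Gi : Matrix ι ι F) (M N : Matrix ι ι F) :
    dg G Gi (M + N) = dg G Gi M + dg G Gi N := by
  unfold dg
  rw [Matrix.transpose_add, mul_add, add_mul]

theorem dg_sub (G Gi : Matrix ι ι F) (M N : Matrix ι ι F) :
    dg G Gi (M - N) = dg G Gi M - dg G Gi N := by
  unfold dg
  rw [Matrix.transpose_sub, mul_sub, sub_mul]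

theorem dg_zero (G Gi : Matrix ι ι F) : dg G Gi (0 : Matrix ι ι F) = 0 := by
  unfold dg
  rw [Matrix.transpose_zero, mul_zero, zero_mul]

theorem dg_dg (G Gi : Matrix ι ι F) (hG : G * Gi = 1) (ε : F) (hε : ε * ε = 1)
    (hsym : Gᵀ = ε • G) (M : Matrix ι ι F) : dg G Gi (dg G Gi M) = M := by
  have hG' : Gi * G = 1 := mul_eq_one_comm.mp hG
  have h1 : Giᵀ * G = ε • (1 : Matrix ι ι F) := by
    have h2 : Giᵀ * Gᵀ = 1 := by rw [← Matrix.transpose_mul, hG, Matrix.transpose_one]
    rw [hsym, Matrix.mul_smul] at h2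
    calc Giᵀ * G = (ε * ε) • (Giᵀ * G) := by rw [hε, one_smul]
      _ = ε • (ε • (Giᵀ * G)) := by rw [smul_smul]
      _ = ε • (1 : Matrix ι ι F) := by rw [h2]
  unfold dg
  rw [Matrix.transpose_mul, Matrix.transpose_mul, Matrix.transpose_transpose, hsym]
  calc Gi * (ε • G * (M * Giᵀ)) * G = ε • ((Gi * G) * M * (Giᵀ * G)) := by
        simp only [Matrix.smul_mul, Matrix.mul_smul, mul_assoc]
    _ = M := by rw [hG', one_mul, h1, Matrix.mul_smul, mul_one, smul_smul, hε, one_smul]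

/-- the bicommutant of the pair `A`, `h` -/
def bic (A h : Matrix ι ι F) : Subring (Matrix ι ι F) :=
  Subring.centralizer ((Subring.centralizer ({A, h} : Set (Matrix ι ι F)) :
    Subring (Matrix ι ι F)) : Set (Matrix ι ι F))

theorem mem_bic (A h m : Matrix ι ι F) :
    m ∈ bic A h ↔ ∀ z : Matrix ι ι F, z * A = A * z → z * h = h * z → z * m = m * z := by
  unfold bic
  rw [Subring.mem_centralizer_iff]
  constructor
  · intro hm z hzA hzh
    refine hm z ?_
    rw [SetLike.mem_coe, Subring.mem_centralizer_iff]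
    intro g hg
    rcases hg with rfl | hg
    · exact hzA.symm
    · rw [Set.mem_singleton_iff] at hg
      rw [hg]; exact hzh.symm
  · intro hm z hz
    rw [SetLike.mem_coe, Subring.mem_centralizer_iff] at hz
    exact hm z (hz A (by simp)).symm (hz h (by simp)).symm

theorem bic_comm (A h : Matrix ι ι F) (hAh : A * h = h * A) (a b : Matrix ι ι F)
    (ha : a ∈ bic A h) (hb : b ∈ bic A h) : a * b = b * a := by
  rw [mem_bic] at ha hb
  exact hb a (ha A rfl hAh).symm (ha h hAh.symm rfl).symm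

theorem mem_bic_of_comm (A h m : Matrix ι ι F) (hm : ∀ z : Matrix ι ι F, z * A = A * z → z * m = m * z) :
    m ∈ bic A h := by
  rw [mem_bic]
  intro z hzA _
  exact hm z hzA

theorem dg_mem_bic (G Gi : Matrix ι ι F) (hG : G * Gi = 1) (ε : F) (hε : ε * ε = 1)
    (hsym : Gᵀ = ε • G) (A Ai h : Matrix ι ι F) (hA : A * Ai = 1) (hdA : dg G Gi A = Ai)
    (hdh : dg G Gi h = h) (m : Matrix ι ι F) (hm : m ∈ bic A h) : dg G Gi m ∈ bic A h := by
  have hA' : Ai * A = 1 := mul_eq_one_comm.mp hA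
  rw [mem_bic] at hm ⊢
  intro z hzA hzh
  -- dg z commutes with Ai, hence with A, and with h
  have h1 : dg G Gi z * Ai = Ai * dg G Gi z := by
    have := congrArg (dg G Gi) hzA
    rw [dg_mul G Gi hG, dg_mul G Gi hG, hdA] at this
    exact this.symm
  have h2 : dg G Gi z * A = A * dg G Gi z := by
    calc dg G Gi z * A = (A * Ai) * (dg G Gi z * A) := by rw [hA, one_mul]
      _ = A * (Ai * dg G Gi z) * A := by simp only [mul_assoc]
      _ = A * (dg G Gi z * Ai) * A := by rw [h1]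
      _ = A * dg G Gi z * (Ai * A) := by simp only [mul_assoc]
      _ = A * dg G Gi z := by rw [hA', mul_one]
  have h3 : dg G Gi z * h = h * dg G Gi z := by
    have := congrArg (dg G Gi) hzh
    rw [dg_mul G Gi hG, dg_mul G Gi hG, hdh] at this
    exact this.symm
  have h4 := congrArg (dg G Gi) (hm _ h2 h3)
  rw [dg_mul G Gi hG, dg_mul G Gi hG, dg_dg G Gi hG ε hε hsym] at h4
  exact h4.symm

/-- the commutative ring structure on the bicommutant -/
@[reducible] noncomputable def bicCommRing (A h : Matrix ι ι F) (hAh : A * h = h * A) :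
    CommRing ↥(bic A h) :=
  { (inferInstance : Ring ↥(bic A h)) with
    mul_comm := fun a b => Subtype.ext (bic_comm A h hAh a.1 b.1 a.2 b.2) }

theorem norm_trick [Finite F] (G Gi : Matrix ι ι F) (hG : G * Gi = 1) (ε : F) (hε : ε * ε = 1)
    (hsym : Gᵀ = ε • G) (A Ai h hi e ρ : Matrix ι ι F) (hA : A * Ai = 1)
    (hdA : dg G Gi A = Ai) (hh : h * hi = 1) (hdh : dg G Gi h = h) (hAh : A * h = h * A)
    (he : e * e = e) (hde : dg G Gi e = e)
    (hec : ∀ z : Matrix ι ι F, z * A = A * z → z * e = e * z)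
    (hρc : ∀ z : Matrix ι ι F, z * A = A * z → z * ρ = ρ * z)
    (hρ : (A - Ai) * ρ = 1 - e) :
    ∃ u : Matrix ι ι F, u * A = A * u ∧ u * e = e * u ∧
      (1 - e) * (dg G Gi u * u) = (1 - e) * h := by
  let _ : CommRing ↥(bic A h) := bicCommRing A h hAh
  have hA' : Ai * A = 1 := mul_eq_one_comm.mp hA
  have hh' : hi * h = 1 := mul_eq_one_comm.mp hh
  have hAmem : A ∈ bic A h := by
    rw [mem_bic]; intro z hz _; exact hz
  have hhmem : h ∈ bic A h := by
    rw [mem_bic]; intro z _ hz; exact hz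
  have hAimem : Ai ∈ bic A h := by
    rw [mem_bic]; intro z hz _
    calc z * Ai = (Ai * A) * (z * Ai) := by rw [hA', one_mul]
      _ = Ai * (A * z) * Ai := by simp only [mul_assoc]
      _ = Ai * (z * A) * Ai := by rw [hz]
      _ = Ai * z * (A * Ai) := by simp only [mul_assoc]
      _ = Ai * z := by rw [hA, mul_one]
  have himem : hi ∈ bic A h := by
    rw [mem_bic]; intro z _ hz
    calc z * hi = (hi * h) * (z * hi) := by rw [hh', one_mul]
      _ = hi * (h * z) * hi := by simp only [mul_assoc]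
      _ = hi * (z * h) * hi := by rw [hz]
      _ = hi * z * (h * hi) := by simp only [mul_assoc]
      _ = hi * z := by rw [hh, mul_one]
  have hemem : e ∈ bic A h := mem_bic_of_comm A h e hec
  have hρmem : ρ ∈ bic A h := mem_bic_of_comm A h ρ hρc
  have hdmem : ∀ m : ↥(bic A h), dg G Gi m.1 ∈ bic A h :=
    fun m => dg_mem_bic G Gi hG ε hε hsym A Ai h hA hdA hdh m.1 m.2
  let τ : ↥(bic A h) →+* ↥(bic A h) :=
    { toFun := fun m => ⟨dg G Gi m.1, hdmem m⟩
      map_one' := Subtype.ext (dg_one G Gi hG)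
      map_mul' := fun a b => Subtype.ext (by
        show dg G Gi (a.1 * b.1) = dg G Gi a.1 * dg G Gi b.1
        rw [dg_mul G Gi hG]
        exact bic_comm A h hAh _ _ (hdmem b) (hdmem a))
      map_zero' := Subtype.ext (dg_zero G Gi)
      map_add' := fun a b => Subtype.ext (dg_add G Gi a.1 b.1) }
  have hτval : ∀ m : ↥(bic A h), (τ m).1 = dg G Gi m.1 := fun m => rfl
  have hττ : ∀ m : ↥(bic A h), τ (τ m) = m := by
    intro m; apply Subtype.ext; rw [hτval, hτval, dg_dg G Gi hG ε hε hsym]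
  obtain ⟨u, hu⟩ := norm_mod_idem τ hττ (⟨e, hemem⟩ : ↥(bic A h)) (Subtype.ext he)
    (Subtype.ext hde) (⟨A, hAmem⟩ : ↥(bic A h)) (⟨ρ, hρmem⟩ : ↥(bic A h))
    (Subtype.ext (by
      show (A - dg G Gi A) * ρ = 1 - e
      rw [hdA]; exact hρ))
    (⟨h, hhmem⟩ : ↥(bic A h)) (⟨hi, himem⟩ : ↥(bic A h)) (Subtype.ext hh) (Subtype.ext hdh)
  refine ⟨u.1, bic_comm A h hAh _ _ u.2 hAmem, bic_comm A h hAh _ _ u.2 hemem, ?_⟩
  have h1 := congrArg Subtype.val hu
  have h2 : (1 - e) * (u.1 * dg G Gi u.1) = (1 - e) * h := h1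
  rw [bic_comm A h hAh _ _ (hdmem u) u.2]
  exact h2

/-- the averaging operator of a matrix `g` with `g ^ k = 1` -/
noncomputable def avg (g : Matrix ι ι F) (k : ℕ) : Matrix ι ι F :=
  (k : F)⁻¹ • ∑ i ∈ Finset.range k, g ^ i

/-- a partial inverse of `g - 1` -/
noncomputable def avgR (g : Matrix ι ι F) (k : ℕ) : Matrix ι ι F :=
  (k : F)⁻¹ • ∑ i ∈ Finset.range k, (i : F) • g ^ i

theorem mul_avg (g : Matrix ι ι F) (k : ℕ) (hg : g ^ k = 1) : g * avg g k = avg g k := by
  unfold avg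
  rw [Matrix.mul_smul]
  congr 1
  rw [Finset.mul_sum]
  have h1 : ∑ i ∈ Finset.range k, g * g ^ i = ∑ i ∈ Finset.range k, g ^ (i + 1) :=
    Finset.sum_congr rfl fun i _ => (pow_succ' g i).symm
  have h2 := Finset.sum_range_succ' (fun i => g ^ i) k
  have h3 := Finset.sum_range_succ (fun i => g ^ i) k
  rw [h1]
  simp only [pow_zero] at h2
  rw [h3, hg] at h2
  exact add_right_cancel h2.symm

theorem avg_fix (g : Matrix ι ι F) (k : ℕ) (hk : (k : F) ≠ 0) (M : Matrix ι ι F)
    (hM : g * M = M) : avg g k * M = M := by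
  have h1 : ∀ i : ℕ, g ^ i * M = M := by
    intro i
    induction i with
    | zero => simp
    | succ i ih => rw [pow_succ, mul_assoc, hM, ih]
  unfold avg
  rw [Matrix.smul_mul, Finset.sum_mul, Finset.sum_congr rfl (fun i _ => h1 i), Finset.sum_const,
    Finset.card_range, ← Nat.cast_smul_eq_nsmul F, smul_smul, inv_mul_cancel₀ hk, one_smul]

theorem avg_idem (g : Matrix ι ι F) (k : ℕ) (hg : g ^ k = 1) (hk : (k : F) ≠ 0) :
    avg g k * avg g k = avg g k :=
  avg_fix g k hk _ (mul_avg g k hg)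

theorem avg_comm (g : Matrix ι ι F) (k : ℕ) (z : Matrix ι ι F) (hz : z * g = g * z) :
    z * avg g k = avg g k * z := by
  have hc : Commute z g := hz
  have h1 : Commute z (∑ i ∈ Finset.range k, g ^ i) :=
    Commute.sum_right _ _ _ (fun i _ => hc.pow_right i)
  exact (h1.smul_right _).eq

theorem avgR_comm (g : Matrix ι ι F) (k : ℕ) (z : Matrix ι ι F) (hz : z * g = g * z) :
    z * avgR g k = avgR g k * z := by
  have hc : Commute z g := hz
  have h1 : Commute z (∑ i ∈ Finset.range k, (i : F) • g ^ i) :=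
    Commute.sum_right _ _ _ (fun i _ => (hc.pow_right i).smul_right _)
  exact (h1.smul_right _).eq

theorem sub_one_mul_avgR (g : Matrix ι ι F) (k : ℕ) (hg : g ^ k = 1) (hk : (k : F) ≠ 0) :
    (g - 1) * avgR g k = 1 - avg g k := by
  have key : ∀ j : ℕ, (g - 1) * ∑ i ∈ Finset.range j, (i : F) • g ^ i =
      (j : F) • g ^ j - g * ∑ i ∈ Finset.range j, g ^ i := by
    intro j
    induction j with
    | zero => simp
    | succ j ih =>
      rw [Finset.sum_range_succ, mul_add, ih, Finset.sum_range_succ, mul_add, Matrix.mul_smul,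
        sub_mul, one_mul, ← pow_succ', Nat.cast_succ, add_smul, one_smul]
      rw [smul_sub]
      abel
  have h1 := mul_avg g k hg
  unfold avg at h1 ⊢
  unfold avgR
  rw [Matrix.mul_smul] at h1
  rw [Matrix.mul_smul, key k, hg, smul_sub, smul_smul, inv_mul_cancel₀ hk, one_smul, h1]

theorem avg_dg (G Gi : Matrix ι ι F) (hG : G * Gi = 1) (ε : F) (hε : ε * ε = 1)
    (hsym : Gᵀ = ε • G) (g gi : Matrix ι ι F) (hggi : g * gi = 1) (hdg : dg G Gi g = gi)
    (k : ℕ) (hg : g ^ k = 1) (hk : (k : F) ≠ 0) : dg G Gi (avg g k) = avg g k := by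
  have h1 : avg g k * gi = avg g k := by
    have h2 : avg g k * g = avg g k := by
      rw [← avg_comm g k g rfl]; exact mul_avg g k hg
    calc avg g k * gi = avg g k * g * gi := by rw [h2]
      _ = avg g k := by rw [mul_assoc, hggi, mul_one]
  have h3 : g * dg G Gi (avg g k) = dg G Gi (avg g k) := by
    have h4 := congrArg (dg G Gi) h1
    rw [dg_mul G Gi hG, ← hdg, dg_dg G Gi hG ε hε hsym] at h4
    exact h4
  have h5 : avg g k * dg G Gi (avg g k) = dg G Gi (avg g k) := avg_fix g k hk _ h3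
  have h6 := congrArg (dg G Gi) h5
  rw [dg_mul G Gi hG, dg_dg G Gi hG ε hε hsym] at h6
  rw [← h5]
  exact h6.symm ▸ rfl

end Cfsg.Agent.Lib.helper18.SemiConj
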