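import Mathlib
import Cfsg.Agent.Lib.helper18.Jordan
import Cfsg.Agent.S2581

set_option autoImplicit false
namespace Cfsg.Agent.Lib.helper18.UniForm

open Cfsg.Agent.Lib.helper18.Jordan

universe u v
variable {F : Type u} [Field F]

/-- an alternating bilinear form has even rank -/
theorem alt_even (n : ℕ) : ∀ {V : Type v} [AddCommGroup V] [Module F V] [FiniteDimensional F V]
    (B : V →ₗ[F] V →ₗ[F] F), (∀ v, B v v = 0) → Module.finrank F V = n →
    Even (Module.finrank F (LinearMap.range B)) := by
  induction n using Nat.strong_induction_on with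
  | _ n ih =>
    intro V _ _ _ B hB hn
    by_cases h0 : B = 0
    · subst h0
      rw [LinearMap.range_zero, finrank_bot]
      exact ⟨0, rfl⟩
    · obtain ⟨v, w, hvw⟩ : ∃ v w, B v w ≠ 0 := by
        by_contra hc
        push Not at hc
        apply h0
        ext v w
        exact hc v w
      have hskew : ∀ x y, B x y = - B y x := by
        intro x y
        have := hB (x + y)
        simp only [map_add, LinearMap.add_apply, hB x, hB y, zero_add, add_zero] at this
        exact eq_neg_of_add_eq_zero_right this
      let ψ : V →ₗ[F] F × F := (B v).prod (B w)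
      let W : Submodule F V := LinearMap.ker ψ
      have hW : ∀ x, x ∈ W ↔ B v x = 0 ∧ B w x = 0 := by
        intro x
        show (B v x, B w x) = 0 ↔ _
        exact Prod.mk_eq_zero
      have hwv : B w v = - B v w := hskew w v
      have hsurj : Function.Surjective ψ := by
        rintro ⟨a, b⟩
        refine ⟨(a / B v w) • w + (- b / B v w) • v, ?_⟩
        show (B v ((a / B v w) • w + (- b / B v w) • v), B w ((a / B v w) • w + (- b / B v w) • v))
          = (a, b)
        simp only [map_add, map_smul, smul_eq_mul, hB v, hB w,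
          mul_zero, add_zero, zero_add, hwv, Prod.mk.injEq]
        constructor
        · field_simp
        · field_simp
      have hdim : Module.finrank F V = Module.finrank F W + 2 := by
        have := LinearMap.finrank_range_add_finrank_ker ψ
        rw [LinearMap.range_eq_top.2 hsurj, finrank_top, Module.finrank_prod,
          Module.finrank_self] at this
        show Module.finrank F V = Module.finrank F (LinearMap.ker ψ) + 2
        omega
      let B' : W →ₗ[F] W →ₗ[F] F := B.domRestrict₁₂ W W
      have hB' : ∀ x : W, B' x x = 0 := fun x => hB x.1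
      have ih' := ih (Module.finrank F W) (by omega) B' hB' rfl
      have hker : Module.finrank F (LinearMap.ker B') = Module.finrank F (LinearMap.ker B) := by
        have hle : LinearMap.ker B ≤ W := by
          intro x hx
          rw [LinearMap.mem_ker] at hx
          rw [hW]
          constructor
          · rw [hskew, hx]; simp
          · rw [hskew, hx]; simp
        have : LinearMap.ker B' = (LinearMap.ker B).comap W.subtype := by
          ext x
          simp only [LinearMap.mem_ker, Submodule.mem_comap, Submodule.subtype_apply]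
          constructor
          · intro hx
            ext y
            have hxW := (hW x.1).1 x.2
            have hy' : y - (B v y / B v w) • w + (B w y / B v w) • v ∈ W := by
              rw [hW]
              simp only [map_add, map_sub, map_smul, smul_eq_mul, hB v, hB w, mul_zero, add_zero,
                sub_zero, hwv]
              constructor
              · field_simp; ring
              · field_simp; ring
            have h1 : B' x ⟨_, hy'⟩ = 0 := by rw [hx]; rfl
            have h2 : B' x ⟨_, hy'⟩ = B x.1 (y - (B v y / B v w) • w + (B w y / B v w) • v) := rfl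
            rw [h2] at h1
            simp only [map_add, map_sub, map_smul, smul_eq_mul] at h1
            rw [hskew x.1 w, hskew x.1 v, hxW.1, hxW.2] at h1
            simpa using h1
          · intro hx
            ext y
            show B x.1 y.1 = 0
            rw [hx]
            rfl
        rw [this]
        exact (Submodule.comapSubtypeEquivOfLe hle).finrank_eq
      have h1 := LinearMap.finrank_range_add_finrank_ker B
      have h2 := LinearMap.finrank_range_add_finrank_ker B'
      have h3 : Module.finrank F (LinearMap.range B) = Module.finrank F (LinearMap.range B') + 2 := by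
        omega
      rw [h3]
      exact ih'.add ⟨1, rfl⟩

/-- isometries `u` of a nondegenerate alternating form: `rank (u-1)^(2b)` is even -/
theorem even_rank_pow {V : Type v} [AddCommGroup V] [Module F V] [FiniteDimensional F V]
    (B : V →ₗ[F] V →ₗ[F] F) (hB : ∀ v, B v v = 0) (hnd : LinearMap.ker B = ⊥)
    (u : Module.End F V) (hu : ∀ v w, B (u v) (u w) = B v w) (b : ℕ) :
    Even (Module.finrank F (LinearMap.range ((u - 1) ^ (2 * b)))) := by
  have hskew : ∀ x y, B x y = - B y x := by
    intro x y
    have := hB (x + y)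
    simp only [map_add, LinearMap.add_apply, hB x, hB y, zero_add, add_zero] at this
    exact eq_neg_of_add_eq_zero_right this
  have hcomm : Commute (u - 1) u := (Commute.refl u).sub_left (Commute.one_left u)
  have hstar : ∀ x y, B ((u - 1) x) (u y) = - B x ((u - 1) y) := by
    intro x y
    simp only [LinearMap.sub_apply, Module.End.one_apply, map_sub, hu]
    ring
  have hpow : ∀ (b : ℕ) x y, B (((u - 1) ^ b) x) ((u ^ b) y) = (-1) ^ b * B x (((u - 1) ^ b) y) := by
    intro b
    induction b with
    | zero => intro x y; simp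
    | succ b ih =>
      intro x y
      rw [pow_succ' (u - 1), pow_succ' u, Module.End.mul_apply, Module.End.mul_apply, hstar]
      have h1 : (u - 1) ((u ^ b) y) = (u ^ b) ((u - 1) y) :=
        LinearMap.congr_fun (hcomm.pow_right b).eq y
      rw [h1, ih, ← pow_succ' (u - 1) b, pow_succ (u - 1) b, Module.End.mul_apply]
      ring
  let C : V →ₗ[F] V →ₗ[F] F := B.compl₁₂ ((u - 1) ^ b) ((u - 1) ^ b)
  have hC : ∀ v, C v v = 0 := fun v => hB _
  have hev := alt_even _ C hC rfl
  have hinj : Function.Injective u := by
    rw [← LinearMap.ker_eq_bot, eq_bot_iff]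
    intro v hv
    rw [LinearMap.mem_ker] at hv
    have : v ∈ LinearMap.ker B := by
      rw [LinearMap.mem_ker]
      ext w
      rw [← hu, hv]
      simp
    rw [hnd] at this
    exact this
  have hsurj : Function.Surjective u := LinearMap.injective_iff_surjective.1 hinj
  have hsurjb : Function.Surjective (u ^ b) := by
    rw [Module.End.coe_pow]
    exact hsurj.iterate b
  have hflipinj : Function.Injective B.flip := by
    rw [← LinearMap.ker_eq_bot, eq_bot_iff]
    intro w hw
    rw [LinearMap.mem_ker] at hw
    have : w ∈ LinearMap.ker B := by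
      rw [LinearMap.mem_ker]
      ext v
      rw [hskew]
      have := LinearMap.congr_fun hw v
      simp only [LinearMap.flip_apply, LinearMap.zero_apply] at this
      rw [this]
      simp
    rw [hnd] at this
    exact this
  have hCflip : C = - C.flip := by
    ext v w
    simp only [C, LinearMap.compl₁₂_apply, LinearMap.neg_apply, LinearMap.flip_apply]
    exact hskew _ _
  have h1 : LinearMap.range C = LinearMap.range C.flip := by
    conv_lhs => rw [hCflip]
    rw [LinearMap.range_neg]
  have h2 : C.flip ∘ₗ (u ^ b) = B.flip ∘ₗ ((-1 : F) ^ b • (u - 1) ^ (2 * b)) := by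
    ext w v
    simp only [C, LinearMap.comp_apply, LinearMap.flip_apply, LinearMap.compl₁₂_apply,
      LinearMap.smul_apply, map_smul, smul_eq_mul]
    have h3 : ((u - 1) ^ b) ((u ^ b) w) = (u ^ b) (((u - 1) ^ b) w) :=
      LinearMap.congr_fun ((hcomm.pow_right b).pow_left b).eq w
    rw [h3, hpow, two_mul, pow_add, Module.End.mul_apply]
  have h4 : LinearMap.range (C.flip ∘ₗ (u ^ b)) = LinearMap.range C.flip :=
    LinearMap.range_comp_of_range_eq_top _ (LinearMap.range_eq_top.2 hsurjb)
  rw [h1, ← h4, h2, LinearMap.range_comp,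
    LinearMap.range_smul _ _ (pow_ne_zero b (neg_ne_zero.2 one_ne_zero))] at hev
  rw [← (Submodule.equivMapOfInjective B.flip hflipinj _).finrank_eq] at hev
  exact hev


/-- rank sequence of the Jordan-type matrix -/
theorem rank_jordan {t : ℕ} (d : Fin t → ℕ) (k : ℕ) :
    Module.finrank F (LinearMap.range ((Matrix.toLin' (Cfsg.jordanTypeMatrix d F - 1)) ^ k)) =
      ∑ i, (d i - k) := by
  classical
  let σ : ((i : Fin t) × Fin (d i)) ≃ {x : Fin t × ℕ // x.2 < d x.1} :=
    { toFun := fun x => ⟨(x.1, x.2.1), x.2.2⟩
      invFun := fun x => ⟨x.1.1, ⟨x.1.2, x.2⟩⟩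
      left_inv := fun x => rfl
      right_inv := fun x => rfl }
  let b := (Pi.basisFun F ((i : Fin t) × Fin (d i))).reindex σ
  have hJ : Cfsg.jordanTypeMatrix d F - 1 = Cfsg.Agent.S2581.Nm d := by
    rw [Cfsg.Agent.S2581.J_eq]; simp
  apply isJB_rank _ d b
  intro x
  rw [hJ]
  rw [Module.Basis.reindex_apply, Pi.basisFun_apply, Matrix.toLin'_apply, Matrix.mulVec_single_one]
  split_ifs with h
  · rw [Module.Basis.reindex_apply, Pi.basisFun_apply]
    funext z
    obtain ⟨z1, z2⟩ := z
    obtain ⟨⟨x1, x2⟩, hx⟩ := x
    simp only [Matrix.col_apply, Cfsg.Agent.S2581.Nm, σ, Equiv.coe_fn_symm_mk, Pi.single_apply]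
    by_cases h1 : z1 = x1
    · subst h1
      simp [Fin.ext_iff]
    · have : ¬ ((⟨z1, z2⟩ : (i : Fin t) × Fin (d i)) = ⟨x1, ⟨x2 + 1, h⟩⟩) := by
        intro h2
        exact h1 (congrArg Sigma.fst h2)
      simp [h1, this]
  · funext z
    obtain ⟨z1, z2⟩ := z
    obtain ⟨⟨x1, x2⟩, hx⟩ := x
    simp only [Matrix.col_apply, Cfsg.Agent.S2581.Nm, σ, Equiv.coe_fn_symm_mk, Pi.zero_apply]
    rw [if_neg]
    rintro ⟨h1, h2⟩
    simp only at h1 h2 h
    subst h1
    have := z2.isLt
    omega

/-- a nilpotent endomorphism of maximal nilpotency index has a single Jordan block -/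
theorem rank_single {V : Type v} [AddCommGroup V] [Module F V] [FiniteDimensional F V]
    (N : Module.End F V) (n : ℕ) (hn : Module.finrank F V = n) (h0 : N ^ n = 0)
    (h1 : N ^ (n - 1) ≠ 0) (k : ℕ) :
    Module.finrank F (LinearMap.range (N ^ k)) = n - k := by
  have hN : IsNilpotent N := ⟨n, h0⟩
  have h2 : ¬ ∀ a ∈ jtype N hN, a ≤ n - 1 := fun h => h1 ((pow_eq_zero_iff_jtype N hN (n - 1)).2 h)
  push Not at h2
  obtain ⟨a, ha, han⟩ := h2
  obtain ⟨m', hm'⟩ := Multiset.exists_cons_of_mem ha
  have hsum := jtype_sum N hN
  rw [hm', Multiset.sum_cons, hn] at hsum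
  have hpos := jtype_pos N hN a ha
  have hm0 : m' = 0 := by
    by_contra hne
    obtain ⟨x, hx⟩ := Multiset.exists_mem_of_ne_zero hne
    have hx0 : 0 < x := jtype_pos N hN x (by rw [hm']; exact Multiset.mem_cons_of_mem hx)
    have := Multiset.single_le_sum (fun _ _ => Nat.zero_le _) x hx
    omega
  rw [jtype_rank N hN k, hm', hm0]
  simp only [Multiset.cons_zero, Multiset.map_singleton, Multiset.sum_singleton]
  rw [hm0] at hsum
  simp at hsum
  omega

theorem toLin'_pow' {n : Type*} [Fintype n] [DecidableEq n] (M : Matrix n n F) (k : ℕ) :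
    Matrix.toLin' (M ^ k) = (Matrix.toLin' M) ^ k := by
  induction k with
  | zero => simp [Module.End.one_eq_id]
  | succ k ih => rw [pow_succ, pow_succ, Matrix.toLin'_mul, ih]; rfl

theorem rank_eq_finrank {n : Type*} [Fintype n] [DecidableEq n] (M : Matrix n n F) (k : ℕ) :
    (M ^ k).rank = Module.finrank F (LinearMap.range ((Matrix.toLin' M) ^ k)) := by
  rw [← toLin'_pow']
  rfl

/-- unipotent matrices with the same rank sequences are conjugate -/
theorem isConj_of_rank {n : Type*} [Fintype n] [DecidableEq n] (A A' : Matrix n n F)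
    (hN : IsNilpotent (A - 1)) (hN' : IsNilpotent (A' - 1))
    (h : ∀ k, ((A - 1) ^ k).rank = ((A' - 1) ^ k).rank) : IsConj A A' := by
  have h1 : IsNilpotent (Matrix.toLin' (A - 1)) := by
    obtain ⟨k, hk⟩ := hN
    exact ⟨k, by rw [← toLin'_pow', hk, map_zero]⟩
  have h2 : IsNilpotent (Matrix.toLin' (A' - 1)) := by
    obtain ⟨k, hk⟩ := hN'
    exact ⟨k, by rw [← toLin'_pow', hk, map_zero]⟩
  have h3 : jtype _ h1 = jtype _ h2 := by
    apply type_unique _ _ (jtype_pos _ h1) (jtype_pos _ h2)
    intro k
    rw [← jtype_rank, ← jtype_rank, ← rank_eq_finrank, ← rank_eq_finrank, h k]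
  obtain ⟨φ, hφ⟩ := (jtype_eq_iff _ _ h1 h2).1 h3
  have hC1 : LinearMap.toMatrix' φ.toLinearMap * LinearMap.toMatrix' φ.symm.toLinearMap = 1 := by
    rw [← LinearMap.toMatrix'_comp]
    simp
  have hC2 : LinearMap.toMatrix' φ.symm.toLinearMap * LinearMap.toMatrix' φ.toLinearMap = 1 := by
    rw [← LinearMap.toMatrix'_comp]
    simp
  have hC3 : LinearMap.toMatrix' φ.toLinearMap * (A - 1) =
      (A' - 1) * LinearMap.toMatrix' φ.toLinearMap := by
    apply Matrix.toLin'.injective
    rw [Matrix.toLin'_mul, Matrix.toLin'_mul, Matrix.toLin'_toMatrix']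
    apply LinearMap.ext
    intro v
    exact hφ v
  refine ⟨⟨_, _, hC1, hC2⟩, ?_⟩
  show LinearMap.toMatrix' φ.toLinearMap * A = A' * LinearMap.toMatrix' φ.toLinearMap
  rw [mul_sub, sub_mul, mul_one, one_mul] at hC3
  exact sub_left_injective hC3

/-- rank of a block-diagonal matrix -/
theorem rank_fromBlocks_diag {m n : Type*} [Fintype m] [Fintype n] [DecidableEq m] [DecidableEq n]
    (A : Matrix m m F) (D : Matrix n n F) :
    (Matrix.fromBlocks A 0 0 D).rank = A.rank + D.rank := by
  let E := LinearEquiv.sumArrowLequivProdArrow m n F F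
  have h1 : E.toLinearMap ∘ₗ (Matrix.fromBlocks A 0 0 D).mulVecLin =
      (A.mulVecLin.prodMap D.mulVecLin) ∘ₗ E.toLinearMap := by
    apply LinearMap.ext
    intro v
    simp only [LinearMap.comp_apply, LinearEquiv.coe_coe, Matrix.mulVecLin_apply,
      Matrix.fromBlocks_mulVec, LinearMap.prodMap_apply, E]
    simp [LinearEquiv.sumArrowLequivProdArrow, Equiv.sumArrowEquivProdArrow]
  have h2 : Module.finrank F (LinearMap.range (E.toLinearMap ∘ₗ (Matrix.fromBlocks A 0 0 D).mulVecLin))
      = (Matrix.fromBlocks A 0 0 D).rank := by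
    rw [LinearMap.range_comp]
    exact LinearEquiv.finrank_map_eq E _
  rw [← h2, h1, LinearMap.range_comp_of_range_eq_top _ (LinearEquiv.range E), LinearMap.range_prodMap]
  have h3 : ∀ (p : Submodule F (m → F)) (q : Submodule F (n → F)),
      Module.finrank F (p.prod q) = Module.finrank F p + Module.finrank F q := by
    intro p q
    rw [← Module.finrank_prod]
    apply LinearEquiv.finrank_eq
    exact
      { toFun := fun x => (⟨x.1.1, x.2.1⟩, ⟨x.1.2, x.2.2⟩)
        invFun := fun x => ⟨(x.1.1, x.2.1), ⟨x.1.2, x.2.2⟩⟩
        map_add' := fun x y => rfl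
        map_smul' := fun c x => rfl
        left_inv := fun x => rfl
        right_inv := fun x => rfl }
  rw [h3]
  rfl

end Cfsg.Agent.Lib.helper18.UniForm
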