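import Mathlib
import Cfsg.Agent.Lib.helper18.UniForm

set_option autoImplicit false
namespace Cfsg.Agent.Lib.helper18.UniForm

open Cfsg.Agent.Lib.helper18.Jordan
open Matrix

universe u v
variable {F : Type u} [Field F]

/-- matrix version of `even_rank_pow` -/
theorem even_rank_pow_mat {n : Type*} [Fintype n] [DecidableEq n] (Ω A : Matrix n n F)
    (halt : ∀ v : n → F, v ⬝ᵥ Ω *ᵥ v = 0) (hdet : Ω.det ≠ 0) (hA : Aᵀ * Ω * A = Ω) (b : ℕ) :
    Even (((A - 1) ^ (2 * b)).rank) := by
  let B : (n → F) →ₗ[F] (n → F) →ₗ[F] F := Matrix.toLinearMap₂' F Ω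
  have hBapp : ∀ v w, B v w = v ⬝ᵥ Ω *ᵥ w := fun v w => Matrix.toLinearMap₂'_apply' _ _ _
  have hB : ∀ v, B v v = 0 := fun v => by rw [hBapp]; exact halt v
  have hnd : LinearMap.ker B = ⊥ := by
    rw [eq_bot_iff]
    intro v hv
    rw [LinearMap.mem_ker] at hv
    have h1 : v ᵥ* Ω = 0 := by
      funext i
      have := LinearMap.congr_fun hv (Pi.single i 1)
      rw [hBapp, Matrix.dotProduct_mulVec, dotProduct_single_one] at this
      exact this
    rw [Submodule.mem_bot]
    exact Matrix.eq_zero_of_vecMul_eq_zero hdet h1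
  have hu : ∀ v w, B (Matrix.toLin' A v) (Matrix.toLin' A w) = B v w := by
    intro v w
    rw [hBapp, hBapp, Matrix.toLin'_apply, Matrix.toLin'_apply, ← Matrix.vecMul_transpose,
      ← Matrix.dotProduct_mulVec, Matrix.mulVec_mulVec, Matrix.mulVec_mulVec, hA]
  have h := even_rank_pow B hB hnd (Matrix.toLin' A) hu b
  rw [rank_eq_finrank]
  have h2 : Matrix.toLin' (A - 1) = Matrix.toLin' A - 1 := by
    rw [map_sub, Matrix.toLin'_one]
    rfl
  rw [h2]
  exact h

theorem conj_rank {n : Type*} [Fintype n] [DecidableEq n] (X A : Matrix n n F) (h : IsConj X A)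
    (k : ℕ) : ((A - 1) ^ k).rank = ((X - 1) ^ k).rank := by
  obtain ⟨c, hc⟩ := h
  have h1 : SemiconjBy (c : Matrix n n F) (X - 1) (A - 1) := by
    unfold SemiconjBy
    rw [mul_sub, sub_mul, hc.eq, mul_one, one_mul]
  have h2 := (h1.pow_right k).eq
  have hdet : IsUnit (c : Matrix n n F).det := (Matrix.isUnit_iff_isUnit_det _).1 c.isUnit
  rw [← Matrix.rank_mul_eq_left_of_isUnit_det (c : Matrix n n F) _ hdet, ← h2,
    Matrix.rank_mul_eq_right_of_isUnit_det _ _ hdet]

theorem reindex_sub_one_pow {n n' : Type*} [Fintype n] [DecidableEq n] [Fintype n']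
    [DecidableEq n'] (e : n ≃ n') (X : Matrix n n F) (k : ℕ) :
    (Matrix.reindex e e X - 1) ^ k = Matrix.reindex e e ((X - 1) ^ k) := by
  have h : ∀ M : Matrix n n F, Matrix.reindex e e M = Matrix.reindexAlgEquiv F F e M := fun M => rfl
  rw [h, h, map_pow, map_sub, map_one]

theorem reindex_rank {n n' : Type*} [Fintype n] [DecidableEq n] [Fintype n'] [DecidableEq n']
    (e : n ≃ n') (X : Matrix n n F) (k : ℕ) :
    ((Matrix.reindex e e X - 1) ^ k).rank = ((X - 1) ^ k).rank := by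
  rw [reindex_sub_one_pow, Matrix.rank_reindex]

theorem fromBlocks_diag_pow {m n : Type*} [Fintype m] [Fintype n] [DecidableEq m] [DecidableEq n]
    (A : Matrix m m F) (D : Matrix n n F) (k : ℕ) :
    (Matrix.fromBlocks A 0 0 D) ^ k = Matrix.fromBlocks (A ^ k) 0 0 (D ^ k) := by
  induction k with
  | zero => simp [Matrix.fromBlocks_one]
  | succ k ih =>
    rw [pow_succ, ih, Matrix.fromBlocks_multiply, pow_succ, pow_succ]
    simp

theorem fromBlocks_diag_sub_one {m n : Type*} [Fintype m] [Fintype n] [DecidableEq m]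
    [DecidableEq n] (A : Matrix m m F) (D : Matrix n n F) :
    Matrix.fromBlocks A 0 0 D - 1 = Matrix.fromBlocks (A - 1) 0 0 (D - 1) := by
  rw [← Matrix.fromBlocks_one, sub_eq_add_neg, Matrix.fromBlocks_neg, Matrix.fromBlocks_add]
  simp [sub_eq_add_neg]

theorem eq_zero_of_rank_eq_zero {n : Type*} [Fintype n] [DecidableEq n] (M : Matrix n n F)
    (h : M.rank = 0) : M = 0 := by
  have h1 : LinearMap.range M.mulVecLin = ⊥ := Submodule.finrank_eq_zero.1 h
  have h2 : M.mulVecLin = 0 := LinearMap.range_eq_bot.1 h1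
  apply Matrix.toLin'.injective
  rw [map_zero]
  exact h2


/-- the nilpotent shift matrix on `Fin a` -/
def Sh (F : Type u) [Field F] (a : ℕ) : Matrix (Fin a) (Fin a) F :=
  fun i j => if (i : ℕ) = (j : ℕ) + 1 then 1 else 0

/-- the reversal permutation matrix on `Fin a` -/
def Rv (F : Type u) [Field F] (a : ℕ) : Matrix (Fin a) (Fin a) F :=
  fun i j => if j = Fin.rev i then 1 else 0

theorem Sh_pow_apply (a k : ℕ) (i j : Fin a) :
    (Sh F a ^ k) i j = if (i : ℕ) = (j : ℕ) + k then 1 else 0 := by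
  induction k generalizing i j with
  | zero =>
    simp only [pow_zero, Matrix.one_apply, add_zero, Fin.ext_iff]
  | succ k ih =>
    rw [pow_succ, Matrix.mul_apply]
    by_cases h : (j : ℕ) + 1 < a
    · rw [Finset.sum_eq_single (⟨(j : ℕ) + 1, h⟩ : Fin a)]
      · rw [ih]
        simp only [Sh, if_true, mul_one]
        congr 1
        apply propext
        constructor <;> intro h1 <;> omega
      · intro x _ hx
        have : ¬ ((x : ℕ) = (j : ℕ) + 1) := fun h1 => hx (Fin.ext h1)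
        simp [Sh, this]
      · intro h1; exact absurd (Finset.mem_univ _) h1
    · rw [Finset.sum_eq_zero, if_neg (by have := i.isLt; omega)]
      intro x _
      have : ¬ ((x : ℕ) = (j : ℕ) + 1) := by have := x.isLt; omega
      simp [Sh, this]

theorem Sh_pow_self (a : ℕ) : Sh F a ^ a = 0 := by
  ext i j
  rw [Sh_pow_apply, if_neg (by have := i.isLt; omega)]
  rfl

theorem Sh_pow_pred_ne (a : ℕ) (ha : 0 < a) : Sh F a ^ (a - 1) ≠ 0 := by
  intro h
  have h1 := congrFun (congrFun h ⟨a - 1, by omega⟩) ⟨0, ha⟩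
  rw [Sh_pow_apply, if_pos (by simp)] at h1
  exact one_ne_zero h1

theorem rank_Sh_pow (a : ℕ) (ha : 0 < a) (k : ℕ) : (Sh F a ^ k).rank = a - k := by
  rw [rank_eq_finrank]
  apply rank_single
  · rw [Module.finrank_fintype_fun_eq_card, Fintype.card_fin]
  · rw [← toLin'_pow', Sh_pow_self, map_zero]
  · rw [← toLin'_pow']
    intro h
    exact Sh_pow_pred_ne a ha (Matrix.toLin'.injective (by rw [h, map_zero]))

theorem Rv_mul_apply (a : ℕ) (M : Matrix (Fin a) (Fin a) F) (i j : Fin a) :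
    (Rv F a * M) i j = M (Fin.rev i) j := by
  rw [Matrix.mul_apply, Finset.sum_eq_single (Fin.rev i)]
  · simp [Rv]
  · intro x _ hx
    simp [Rv, hx]
  · intro h1; exact absurd (Finset.mem_univ _) h1

theorem mul_Rv_apply (a : ℕ) (M : Matrix (Fin a) (Fin a) F) (i j : Fin a) :
    (M * Rv F a) i j = M i (Fin.rev j) := by
  rw [Matrix.mul_apply, Finset.sum_eq_single (Fin.rev j)]
  · simp [Rv]
  · intro x _ hx
    have : ¬ (j = Fin.rev x) := fun h => hx (by rw [h, Fin.rev_rev])
    simp [Rv, this]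
  · intro h1; exact absurd (Finset.mem_univ _) h1

theorem Rv_mul_Rv (a : ℕ) : Rv F a * Rv F a = 1 := by
  ext i j
  rw [Rv_mul_apply]
  simp only [Rv, Fin.rev_rev, Matrix.one_apply]
  congr 1
  exact propext eq_comm

theorem Rv_transpose (a : ℕ) : (Rv F a)ᵀ = Rv F a := by
  ext i j
  simp only [Matrix.transpose_apply, Rv]
  congr 1
  apply propext
  constructor
  · intro h; rw [h, Fin.rev_rev]
  · intro h; rw [h, Fin.rev_rev]

theorem Rv_Sh_Rv (a : ℕ) : Rv F a * Sh F a * Rv F a = (Sh F a)ᵀ := by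
  ext i j
  rw [mul_Rv_apply, Rv_mul_apply]
  simp only [Sh, Matrix.transpose_apply, Fin.val_rev]
  congr 1
  apply propext
  have := i.isLt
  have := j.isLt
  constructor <;> intro h <;> omega

theorem Sh_Rv (a : ℕ) : Sh F a * Rv F a = Rv F a * (Sh F a)ᵀ := by
  rw [← Rv_Sh_Rv, ← mul_assoc, ← mul_assoc, Rv_mul_Rv, one_mul]

theorem Rv_Sh (a : ℕ) : Rv F a * Sh F a = (Sh F a)ᵀ * Rv F a := by
  rw [← Rv_Sh_Rv, mul_assoc _ (Rv F a) (Rv F a), Rv_mul_Rv, mul_one]

end Cfsg.Agent.Lib.helper18.UniForm
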