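import Mathlib

namespace Cfsg.Agent.Lib.helper18.AutOrbB

open scoped commutatorElement

theorem exists_c {G : Type*} [Group G] (hD : Nat.card (commutator G) = 2) :
    ∃ c : G, c ∈ commutator G ∧ c ≠ 1 ∧ c * c = 1 ∧ ∀ d ∈ commutator G, d = 1 ∨ d = c := by
  rw [Nat.card_eq_two_iff' (1 : commutator G)] at hD
  obtain ⟨c, hc, huniq⟩ := hD
  have hall : ∀ d ∈ commutator G, d = 1 ∨ d = c.1 := by
    intro d hd
    by_cases h1 : d = 1
    · left; exact h1
    · right
      have := huniq ⟨d, hd⟩ (fun h => h1 (congrArg Subtype.val h))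
      exact congrArg Subtype.val this
  have hc1 : c.1 ≠ 1 := fun h => hc (Subtype.ext h)
  refine ⟨c.1, c.2, hc1, ?_, hall⟩
  rcases hall (c.1 * c.1) (mul_mem c.2 c.2) with h | h
  · exact h
  · exact absurd (by simpa using h) hc1

theorem core {G : Type*} [Group G] [Finite G] (c : G) (hc2 : c * c = 1)
    (hcc : ∀ g, c * g = g * c)
    (hdich : ∀ x y : G, x * y = y * x ∨ x * y = c * (y * x))
    (u : G) (hu2 : u * u = c) (g : G) (hg : g * u ≠ u * g) :
    4 ≤ Nat.card (MulAction.orbit (MulAut G) g) := by
  classical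
  have hflip : ∀ x y : G, x * y = c * (y * x) → y * x = c * (x * y) := by
    intro x y h
    rw [h, ← mul_assoc, hc2, one_mul]
  have hu1 : u ≠ 1 := by
    rintro rfl
    exact hg (by simp)
  have huc : u ≠ c := by
    rintro rfl
    exact hg (hcc g).symm
  let φf : G → G := fun x => if x * u = u * x then x else x * u
  have hφ_mul : ∀ x y, φf (x * y) = φf x * φf y := by
    intro x y
    by_cases hx : x * u = u * x
    · by_cases hy : y * u = u * y
      · have hxy : (x * y) * u = u * (x * y) := by
          rw [mul_assoc, hy, ← mul_assoc, hx, mul_assoc]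
        simp only [φf, if_pos hx, if_pos hy, if_pos hxy]
      · have hxy : ¬ ((x * y) * u = u * (x * y)) := by
          intro h
          apply hy
          have : x * (y * u) = x * (u * y) := by
            rw [← mul_assoc, h, ← mul_assoc, ← hx, mul_assoc]
          exact mul_left_cancel this
        simp only [φf, if_pos hx, if_neg hy, if_neg hxy, mul_assoc]
    · by_cases hy : y * u = u * y
      · have hxy : ¬ ((x * y) * u = u * (x * y)) := by
          intro h
          apply hx
          have : (x * u) * y = (u * x) * y := by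
            rw [mul_assoc, ← hy, ← mul_assoc, h, mul_assoc]
          exact mul_right_cancel this
        simp only [φf, if_neg hx, if_pos hy, if_neg hxy]
        rw [mul_assoc, mul_assoc, hy]
      · have hx' : x * u = c * (u * x) := (hdich x u).resolve_left hx
        have hy' : y * u = c * (u * y) := (hdich y u).resolve_left hy
        have hxy : (x * y) * u = u * (x * y) := by
          calc (x * y) * u = x * (y * u) := mul_assoc _ _ _
            _ = x * (c * (u * y)) := by rw [hy']
            _ = (c * x) * (u * y) := by rw [hcc x, mul_assoc]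
            _ = c * ((x * u) * y) := by simp only [mul_assoc]
            _ = c * ((c * (u * x)) * y) := by rw [hx']
            _ = (c * c) * (u * (x * y)) := by simp only [mul_assoc]
            _ = u * (x * y) := by rw [hc2, one_mul]
        simp only [φf, if_neg hx, if_neg hy, if_pos hxy]
        have huy : u * y = c * (y * u) := hflip _ _ hy'
        symm
        calc x * u * (y * u) = x * ((u * y) * u) := by simp only [mul_assoc]
          _ = x * ((c * (y * u)) * u) := by rw [huy]
          _ = x * (c * (y * (u * u))) := by simp only [mul_assoc]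
          _ = x * (c * (c * y)) := by rw [hu2, hcc y]
          _ = x * y := by rw [← mul_assoc c c y, hc2, one_mul]
  have hφ_one : φf 1 = 1 := by simp [φf]
  let φ : G →* G := ⟨⟨φf, hφ_one⟩, hφ_mul⟩
  have hinj : Function.Injective φ := by
    rw [injective_iff_map_eq_one]
    intro x hx
    change φf x = 1 at hx
    by_cases hxu : x * u = u * x
    · simpa [φf, if_pos hxu] using hx
    · exfalso
      simp only [φf, if_neg hxu] at hx
      apply hxu
      have : x = u⁻¹ := mul_eq_one_iff_eq_inv.1 hx
      rw [this]; simp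
  have hbij : Function.Bijective φ := Finite.injective_iff_bijective.1 hinj
  let e : MulAut G := MulEquiv.ofBijective φ hbij
  have he : ∀ x, e x = φf x := fun x => rfl
  have m1 : g ∈ MulAction.orbit (MulAut G) g := MulAction.mem_orbit_self g
  have m2 : u * g * u⁻¹ ∈ MulAction.orbit (MulAut G) g :=
    MulAction.mem_orbit_iff.2 ⟨MulAut.conj u, by rw [MulAut.smul_def, MulAut.conj_apply]⟩
  have m3 : g * u ∈ MulAction.orbit (MulAut G) g :=
    MulAction.mem_orbit_iff.2 ⟨e, by rw [MulAut.smul_def, he]; simp only [φf, if_neg hg]⟩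
  have m4 : u * g ∈ MulAction.orbit (MulAut G) g :=
    MulAction.mem_orbit_iff.2 ⟨MulAut.conj u * e, by
      rw [MulAut.smul_def, MulAut.mul_apply, he, MulAut.conj_apply]
      simp only [φf, if_neg hg]
      group⟩
  have h12 : g ≠ u * g * u⁻¹ := by
    intro h
    apply hg
    calc g * u = (u * g * u⁻¹) * u := by rw [← h]
      _ = u * g := by group
  have h13 : g ≠ g * u := by
    intro h
    have : g * u = g * 1 := by rw [mul_one]; exact h.symm
    exact hu1 (mul_left_cancel this)
  have h14 : g ≠ u * g := by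
    intro h
    have : u * g = 1 * g := by rw [one_mul]; exact h.symm
    exact hu1 (mul_right_cancel this)
  have h23 : u * g * u⁻¹ ≠ g * u := by
    intro h
    have h' : u * g = c * g := by
      calc u * g = (u * g * u⁻¹) * u := by group
        _ = g * u * u := by rw [h]
        _ = g * c := by rw [mul_assoc, hu2]
        _ = c * g := (hcc g).symm
    exact huc (mul_right_cancel h')
  have h24 : u * g * u⁻¹ ≠ u * g := by
    intro h
    have : (u * g) * u⁻¹ = (u * g) * 1 := by rw [mul_one]; exact h
    have := mul_left_cancel this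
    exact hu1 (inv_eq_one.1 this)
  have h34 : g * u ≠ u * g := hg
  have hsub : ({g, u * g * u⁻¹, g * u, u * g} : Set G) ⊆ MulAction.orbit (MulAut G) g := by
    intro x hx
    simp only [Set.mem_insert_iff, Set.mem_singleton_iff] at hx
    rcases hx with rfl | rfl | rfl | rfl
    · exact m1
    · exact m2
    · exact m3
    · exact m4
  have h4 : ({g, u * g * u⁻¹, g * u, u * g} : Set G).ncard = 4 := by
    rw [Set.ncard_insert_of_notMem (by
        simp only [Set.mem_insert_iff, Set.mem_singleton_iff, not_or]; exact ⟨h12, h13, h14⟩),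
      Set.ncard_insert_of_notMem (by
        simp only [Set.mem_insert_iff, Set.mem_singleton_iff, not_or]; exact ⟨h23, h24⟩),
      Set.ncard_pair h34]
  rw [Nat.card_coe_set_eq, ← h4]
  exact Set.ncard_le_ncard hsub (Set.toFinite _)

theorem exists_u {G : Type*} [Group G] [Finite G] (c : G) (hc2 : c * c = 1)
    (hcc : ∀ g, c * g = g * c)
    (hdich : ∀ x y : G, x * y = y * x ∨ x * y = c * (y * x))
    (hnc : ∃ g h : G, g * h ≠ h * g)
    (hE : ∀ e ∈ Subgroup.center G, e * e = 1 → e = 1 ∨ e = c) (hc1 : c ≠ 1) :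
    ∃ u : G, u ∉ Subgroup.center G ∧ u * u = c := by
  classical
  have hcZ : c ∈ Subgroup.center G := Subgroup.mem_center_iff.2 (fun g => (hcc g).symm)
  have hsq : ∀ x : G, x * x ∈ Subgroup.center G := by
    intro x
    rw [Subgroup.mem_center_iff]
    intro g
    rcases hdich g x with h | h
    · rw [← mul_assoc, h, mul_assoc, h, mul_assoc]
    · calc g * (x * x) = (g * x) * x := (mul_assoc _ _ _).symm
        _ = (c * (x * g)) * x := by rw [h]
        _ = c * (x * (g * x)) := by simp only [mul_assoc]
        _ = c * (x * (c * (x * g))) := by rw [h]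
        _ = c * ((c * x) * (x * g)) := by rw [hcc x]; simp only [mul_assoc]
        _ = (c * c) * (x * x * g) := by simp only [mul_assoc]
        _ = x * x * g := by rw [hc2, one_mul]
  let f : Subgroup.center G →* Subgroup.center G :=
    { toFun := fun z => z * z
      map_one' := by simp
      map_mul' := by
        intro a b
        apply Subtype.ext
        have hab : (b : G) * (a : G) = (a : G) * (b : G) :=
          (Subgroup.mem_center_iff.1 a.2 b.1)
        change (a.1 * b.1) * (a.1 * b.1) = (a.1 * a.1) * (b.1 * b.1)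
        calc (a.1 * b.1) * (a.1 * b.1) = a.1 * (b.1 * a.1) * b.1 := by simp only [mul_assoc]
          _ = a.1 * (a.1 * b.1) * b.1 := by rw [hab]
          _ = _ := by simp only [mul_assoc] }
  have hfa : ∀ z : Subgroup.center G, ((f z : Subgroup.center G) : G) = (z : G) * (z : G) := by
    intro z
    rfl
  have hker : Nat.card f.ker = 2 := by
    rw [Nat.card_eq_two_iff' (1 : f.ker)]
    have hcker : (⟨c, hcZ⟩ : Subgroup.center G) ∈ f.ker := by
      rw [MonoidHom.mem_ker]
      apply Subtype.ext
      rw [hfa]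
      simpa using hc2
    refine ⟨⟨⟨c, hcZ⟩, hcker⟩, ?_, ?_⟩
    · intro h
      apply hc1
      have := congrArg (fun z : f.ker => (z.1.1 : G)) h
      simpa using this
    · intro y hy
      have hy2 : y.1.1 * y.1.1 = 1 := by
        have h1 := y.2
        rw [MonoidHom.mem_ker] at h1
        have h2 : ((f y.1 : Subgroup.center G) : G) = ((1 : Subgroup.center G) : G) :=
          congrArg Subtype.val h1
        rw [hfa] at h2
        simpa using h2
      rcases hE y.1.1 y.1.2 hy2 with h | h
      · exact absurd (Subtype.ext (Subtype.ext h)) hy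
      · exact Subtype.ext (Subtype.ext h)
  have hidx : f.range.index = 2 := by
    have h1 := Subgroup.card_mul_index f.ker
    have h2 := Subgroup.card_mul_index f.range
    rw [Subgroup.index_ker, hker] at h1
    have hpos : 0 < Nat.card f.range := Nat.card_pos
    have : Nat.card f.range * f.range.index = Nat.card f.range * 2 := by
      rw [h2, ← h1, mul_comm]
    exact Nat.eq_of_mul_eq_mul_left hpos this
  have hS : ∀ a : G, ∀ ha : a ∈ Subgroup.center G,
      ((⟨a, ha⟩ : Subgroup.center G) ∈ f.range ↔ ∃ w ∈ Subgroup.center G, w * w = a) := by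
    intro a ha
    rw [MonoidHom.mem_range]
    constructor
    · rintro ⟨w, hw⟩
      refine ⟨w.1, w.2, ?_⟩
      have h2 : ((f w : Subgroup.center G) : G) = a := congrArg Subtype.val hw
      rw [hfa] at h2
      exact h2
    · rintro ⟨w, hw, hww⟩
      refine ⟨⟨w, hw⟩, ?_⟩
      apply Subtype.ext
      rw [hfa]
      exact hww
  have F1 : ∀ a b : G, a ∈ Subgroup.center G → b ∈ Subgroup.center G →
      (¬ ∃ w ∈ Subgroup.center G, w * w = a) → (¬ ∃ w ∈ Subgroup.center G, w * w = b) →
      ∃ w ∈ Subgroup.center G, w * w = a * b := by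
    intro a b ha hb hna hnb
    have := (Subgroup.mul_mem_iff_of_index_two hidx (a := ⟨a, ha⟩) (b := ⟨b, hb⟩)).2 (by
      rw [hS a ha, hS b hb]; exact ⟨fun h => absurd h hna, fun h => absurd h hnb⟩)
    exact (hS (a * b) (mul_mem ha hb)).1 this
  obtain ⟨g, h, hgh⟩ := hnc
  have hgh' : g * h = c * (h * g) := (hdich g h).resolve_left hgh
  have hgZ : g ∉ Subgroup.center G := fun hz => hgh ((Subgroup.mem_center_iff.1 hz h)).symm
  have hhZ : h ∉ Subgroup.center G := fun hz => hgh (Subgroup.mem_center_iff.1 hz g)
  have hZc : ∀ w ∈ Subgroup.center G, ∀ x : G, w * x = x * w :=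
    fun w hw x => (Subgroup.mem_center_iff.1 hw x).symm
  have hmul : ∀ x w : G, w ∈ Subgroup.center G → (x * w) * (x * w) = (x * x) * (w * w) := by
    intro x w hw
    calc (x * w) * (x * w) = x * (w * x) * w := by simp only [mul_assoc]
      _ = x * (x * w) * w := by rw [hZc w hw x]
      _ = _ := by simp only [mul_assoc]
  have hnotZ : ∀ x w : G, x ∉ Subgroup.center G → w ∈ Subgroup.center G →
      x * w ∉ Subgroup.center G := by
    intro x w hx hw hxw
    apply hx
    have := mul_mem hxw (inv_mem hw)
    simpa using this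
  have hci : c⁻¹ = c := inv_eq_of_mul_eq_one_left hc2
  by_cases hSc : ∃ w ∈ Subgroup.center G, w * w = c
  · obtain ⟨z1, hz1, hz1c⟩ := hSc
    by_cases hex : ∃ x, x ∉ Subgroup.center G ∧ ∃ w ∈ Subgroup.center G, w * w = x * x
    · obtain ⟨x, hx, w, hw, hww⟩ := hex
      refine ⟨x * (w⁻¹ * z1), hnotZ x _ hx (mul_mem (inv_mem hw) hz1), ?_⟩
      rw [hmul x _ (mul_mem (inv_mem hw) hz1), hmul w⁻¹ z1 hz1, hz1c, ← hww]
      group
    · exfalso
      have hall : ∀ x, x ∉ Subgroup.center G → ¬ ∃ w ∈ Subgroup.center G, w * w = x * x :=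
        fun x hx hw => hex ⟨x, hx, hw⟩
      have hghZ : g * h ∉ Subgroup.center G := by
        intro hz
        apply hgh
        have h1 := hZc _ hz g
        have h2 : g * (h * g) = g * (g * h) := by rw [← mul_assoc, h1]
        exact (mul_left_cancel h2).symm
      obtain ⟨w, hw, hww⟩ := F1 (g * g) (h * h) (hsq g) (hsq h) (hall g hgZ) (hall h hhZ)
      apply hall (g * h) hghZ
      refine ⟨z1 * w, mul_mem hz1 hw, ?_⟩
      rw [hmul z1 w hw, hz1c, hww]
      have hhg : h * g = c * (g * h) := by rw [hgh', ← mul_assoc, hc2, one_mul]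
      calc c * (g * g * (h * h)) = (c * g) * (g * h) * h := by simp only [mul_assoc]
        _ = (g * c) * (g * h) * h := by rw [hcc g]
        _ = g * (c * (g * h)) * h := by simp only [mul_assoc]
        _ = g * (h * g) * h := by rw [hhg]
        _ = g * h * (g * h) := by simp only [mul_assoc]
  · by_cases hex : ∃ x, x ∉ Subgroup.center G ∧ ¬ ∃ w ∈ Subgroup.center G, w * w = x * x
    · obtain ⟨x, hx, hns⟩ := hex
      obtain ⟨w, hw, hww⟩ := F1 (x * x) c (hsq x) hcZ hns hSc
      refine ⟨x * w⁻¹, hnotZ x _ hx (inv_mem hw), ?_⟩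
      rw [hmul x _ (inv_mem hw)]
      have hww' : w * w = c * (x * x) := hww.trans (hcc (x * x)).symm
      have h3 : w⁻¹ * w⁻¹ = (c * (x * x))⁻¹ := by rw [← hww']; group
      rw [h3]
      calc x * x * (c * (x * x))⁻¹ = c⁻¹ := by group
        _ = c := hci
    · have hall : ∀ x, x ∉ Subgroup.center G → ∃ w ∈ Subgroup.center G, w * w = x * x := by
        intro x hx
        by_contra hns
        exact hex ⟨x, hx, hns⟩
      obtain ⟨w1, hw1, hww1⟩ := hall g hgZ
      obtain ⟨w2, hw2, hww2⟩ := hall h hhZ
      obtain ⟨g0, hg0⟩ : ∃ g0, g0 = g * w1⁻¹ := ⟨_, rfl⟩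
      obtain ⟨h0, hh0⟩ : ∃ h0, h0 = h * w2⁻¹ := ⟨_, rfl⟩
      have hg0sq : g0 * g0 = 1 := by
        rw [hg0, hmul g _ (inv_mem hw1), ← hww1]; group
      have hh0sq : h0 * h0 = 1 := by
        rw [hh0, hmul h _ (inv_mem hw2), ← hww2]; group
      have hg0h0 : g0 * h0 ≠ h0 * g0 := by
        intro hcomm
        apply hgh
        have e1 : g0 * h0 = g * h * (w1⁻¹ * w2⁻¹) := by
          rw [hg0, hh0]
          calc g * w1⁻¹ * (h * w2⁻¹) = g * (w1⁻¹ * h) * w2⁻¹ := by simp only [mul_assoc]
            _ = g * (h * w1⁻¹) * w2⁻¹ := by rw [hZc _ (inv_mem hw1) h]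
            _ = _ := by simp only [mul_assoc]
        have e2 : h0 * g0 = h * g * (w1⁻¹ * w2⁻¹) := by
          rw [hg0, hh0]
          calc h * w2⁻¹ * (g * w1⁻¹) = h * (w2⁻¹ * g) * w1⁻¹ := by simp only [mul_assoc]
            _ = h * (g * w2⁻¹) * w1⁻¹ := by rw [hZc _ (inv_mem hw2) g]
            _ = h * g * (w2⁻¹ * w1⁻¹) := by simp only [mul_assoc]
            _ = h * g * (w1⁻¹ * w2⁻¹) := by rw [hZc _ (inv_mem hw2) w1⁻¹]
        rw [e1, e2] at hcomm
        exact mul_right_cancel hcomm
      have hd : g0 * h0 = c * (h0 * g0) := (hdich g0 h0).resolve_left hg0h0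
      refine ⟨g0 * h0, ?_, ?_⟩
      · intro hz
        apply hg0h0
        have h1 := hZc _ hz g0
        have h2 : g0 * (h0 * g0) = g0 * (g0 * h0) := by rw [← mul_assoc, h1]
        exact (mul_left_cancel h2).symm
      · calc g0 * h0 * (g0 * h0) = c * (h0 * g0) * (g0 * h0) := by rw [hd]
          _ = c * (h0 * (g0 * g0) * h0) := by simp only [mul_assoc]
          _ = c * (h0 * h0) := by rw [hg0sq, mul_one]
          _ = c := by rw [hh0sq, mul_one]

theorem caseB_two {G : Type*} [Group G] [Finite G] (hD : Nat.card (commutator G) = 2)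
    (hDZ : commutator G ≤ Subgroup.center G)
    (hE : ∀ e ∈ Subgroup.center G, e ^ 2 = 1 → e ∈ commutator G) :
    ∃ u : G, u ∉ Subgroup.center G ∧
      ∀ g : G, ¬ Commute g u → 2 ^ 2 ≤ Nat.card (MulAction.orbit (MulAut G) g) := by
  obtain ⟨c, hcD, hc1, hc2, hall⟩ := exists_c hD
  have hcZ := hDZ hcD
  have hcc : ∀ g, c * g = g * c := fun g => (Subgroup.mem_center_iff.1 hcZ g).symm
  have hdich : ∀ x y : G, x * y = y * x ∨ x * y = c * (y * x) := by
    intro x y
    have hmem : ⁅x, y⁆ ∈ commutator G := by
      rw [commutator_def]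
      exact Subgroup.commutator_mem_commutator (Subgroup.mem_top x) (Subgroup.mem_top y)
    have hxy : x * y = ⁅x, y⁆ * (y * x) := by rw [commutatorElement_def]; group
    rcases hall _ hmem with h | h
    · left; rw [hxy, h, one_mul]
    · right; rw [hxy, h]
  have hnc : ∃ g h : G, g * h ≠ h * g := by
    by_contra hno
    push Not at hno
    apply hc1
    have hle : commutator G ≤ ⊥ := by
      rw [commutator_def, Subgroup.commutator_le]
      intro a _ b _
      rw [Subgroup.mem_bot, commutatorElement_def, hno a b]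
      group
    exact Subgroup.mem_bot.1 (hle hcD)
  obtain ⟨u, huZ, hu2⟩ := exists_u c hc2 hcc hdich hnc (fun e he he2 => by
    have h1 := hE e he (by rw [pow_two]; exact he2)
    exact hall e h1) hc1
  refine ⟨u, huZ, fun g hg => ?_⟩
  have hgu : g * u ≠ u * g := fun h => hg h
  have h4 := core c hc2 hcc hdich u hu2 g hgu
  norm_num
  exact h4

end Cfsg.Agent.Lib.helper18.AutOrbB
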